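import Cfsg.Agent.Lib.Fus.Goldschmidt.Bender
import Cfsg.Agent.Lib.Fus.Goldschmidt.FourModels2
import Cfsg.Agent.Lib.Fus.ZStarCenter
import Cfsg.Agent.Lib.Transfer.Abelian

/-!
# Simple groups with abelian Sylow 2-subgroup or a strongly embedded subgroup: what acts like a Sylow element

An automorphism of 2-power order fixing an abelian Sylow 2-subgroup pointwise is inner by one of its elements.
With a strongly embedded subgroup and `W` the involutions of the Sylow subgroup `P` with `1`: two subgroups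
of `P` not in `W` and kept by `N(P)` do not commute, and an automorphism fixing `W` and `P/W` which has no
commutator with `N(P)` in `P - W` is inner by an element of `W`.
-/

set_option autoImplicit false
set_option linter.style.haveILetI false
set_option linter.unusedSectionVars false

namespace Cfsg.Agent.Fus.ClosedProduct

open Subgroup
open scoped commutatorElement Pointwise

universe u

section Abelian

variable {J : Type u} [Group J] [Finite J]

/-- `J = NP` with `P` abelian, `C(N) = 1` and `O(N) = 1` forces `P ≤ N`. -/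
theorem sylow_le_of_abelian (N : Subgroup J) [N.Normal] (hc : centralizer (N : Set J) = ⊥)
    (hO : Cfsg.pPrimeCore 2 ↥N = ⊥) (P : Sylow 2 J) (hP : IsMulCommutative ↥(P : Subgroup J))
    (hNP : N ⊔ (P : Subgroup J) = ⊤) : (P : Subgroup J) ≤ N := by
  haveI : Fact (Nat.Prime 2) := ⟨Nat.prime_two⟩
  obtain ⟨-, hdec⟩ := Transfer.abelian_sylow_decomp P hP
  refine hdec.trans (sup_le (inf_le_right.trans ?_) fun c hcC => ?_)
  · rw [Cfsg.pResidual, closure_le]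
    intro g hg
    refine (QuotientGroup.eq_one_iff g).1 (orderOf_eq_one_iff.1 ?_)
    obtain ⟨n, hn, p, hp, rfl⟩ := mem_sup_of_normal_left.1 (hNP ▸ mem_top g)
    obtain ⟨k, hk⟩ := P.isPGroup' ⟨p, hp⟩
    refine Nat.eq_one_of_dvd_coprimes (Nat.Coprime.pow_right k hg)
      (orderOf_map_dvd (QuotientGroup.mk' N) (n * p)) (orderOf_dvd_of_pow_eq_one ?_)
    rw [QuotientGroup.mk_mul, (QuotientGroup.eq_one_iff n).2 hn, one_mul, ← QuotientGroup.mk_pow,
      show p ^ 2 ^ k = 1 from congrArg Subtype.val hk, QuotientGroup.mk_one]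
  · have hiso : Fus.IsoElt P c := by
      refine ⟨hcC.1, fun g hg => ?_⟩
      obtain ⟨n, hn, e⟩ := Transfer.exists_normalizer_conj_of_abelian P hP hcC.1 hg
      rw [← e, mul_inv_eq_iff_eq_mul]
      exact mem_centralizer_iff.1 hcC.2 n hn
    have hcen : c ∈ centralizer (N : Set J) := mem_centralizer_iff.2 fun a ha => by
      have h1 := Fus.IsoElt.commutator_mem _ J rfl P c hiso a
      have haN : c * a * c⁻¹ * a⁻¹ ∈ N := mul_mem (Normal.conj_mem inferInstance a ha c) (inv_mem ha)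
      haveI : (Cfsg.pPrimeCore 2 J).Normal := Grp.pPrimeCore_isNormal
      have h2 : (Cfsg.pPrimeCore 2 J).comap N.subtype ≤ Cfsg.pPrimeCore 2 ↥N :=
        Grp.le_pPrimeCore inferInstance (Nat.Coprime.coprime_dvd_left
          (card_comap_dvd_of_injective _ N.subtype N.subtype_injective) Grp.pPrimeCore_coprime)
      have h3 : (⟨_, haN⟩ : ↥N) = 1 := mem_bot.1 (hO ▸ h2 (mem_comap.2 h1))
      have h4 : c * a * c⁻¹ * a⁻¹ = 1 := congrArg Subtype.val h3
      rw [mul_inv_eq_one, mul_inv_eq_iff_eq_mul] at h4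
      exact h4.symm
    rw [hc, mem_bot] at hcen
    rw [hcen]
    exact one_mem N

variable {L : Type u} [Group L] [Finite L] [IsSimpleGroup L]

/-- An automorphism of 2-power order centralising an abelian Sylow 2-subgroup is inner by one of its elements. -/
theorem inner_of_abelian (hL : ¬ IsMulCommutative L) (h2 : 2 ∣ Nat.card L) (P : Sylow 2 L)
    (hP : ∀ a ∈ (P : Subgroup L), ∀ b ∈ (P : Subgroup L), a * b = b * a) (α : MulAut L)
    (hα : ∃ i : ℕ, α ^ 2 ^ i = 1) (hfix : ∀ t ∈ (P : Subgroup L), α t = t) :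
    ∃ p ∈ (P : Subgroup L), α = MulAut.conj p := by
  classical
  haveI : Fact (Nat.Prime 2) := ⟨Nat.prime_two⟩
  set R := (MulAut.conj : L →* MulAut L).range with hR
  haveI : R.Normal := ⟨by
    rintro _ ⟨g, rfl⟩ f
    exact ⟨f g, MulEquiv.ext fun x => by simp⟩⟩
  set J := R ⊔ zpowers α with hJ
  have hRJ : R ≤ J := le_sup_left
  set αJ : ↥J := ⟨α, mem_sup_right (mem_zpowers α)⟩
  let φ : L →* ↥J := (MulAut.conj : L →* MulAut L).codRestrict J fun g => hRJ ⟨g, rfl⟩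
  have hφi : Function.Injective φ := by
    rw [injective_iff_map_eq_one]
    intro g hg
    have hz : g ∈ center L := mem_center_iff.2 fun x => by
      have h1 : MulAut.conj g x = x := congrArg (fun f : MulAut L => f x) (congrArg Subtype.val hg)
      rw [MulAut.conj_apply, mul_inv_eq_iff_eq_mul] at h1
      exact h1.symm
    rw [Transfer.CentralFour.center_eq_bot hL] at hz
    exact mem_bot.1 hz
  set N := φ.range with hN
  haveI : N.Normal := ⟨by
    rintro _ ⟨g, rfl⟩ f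
    exact ⟨(f : MulAut L) g, Subtype.ext (MulEquiv.ext fun x => by simp [φ])⟩⟩
  have hgen : ∀ j : ↥J, ∃ n ∈ N, ∃ i : ℤ, j = n * αJ ^ i := by
    intro j
    obtain ⟨r, ⟨g, rfl⟩, z, hz, e⟩ := mem_sup_of_normal_left.1 j.2
    obtain ⟨i, rfl⟩ := mem_zpowers_iff.1 hz
    exact ⟨φ g, ⟨g, rfl⟩, i, Subtype.ext (by simp [φ, αJ, e])⟩
  have hc : centralizer (N : Set ↥J) = ⊥ := by
    rw [eq_bot_iff]
    intro f hf
    refine mem_bot.2 (Subtype.ext (MulEquiv.ext fun x => ?_))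
    have h1 := congrArg Subtype.val (mem_centralizer_iff.1 hf (φ x) ⟨x, rfl⟩)
    simp only [Subgroup.coe_mul] at h1
    show (f : MulAut L) x = x
    have h3 : ((f : MulAut L) x)⁻¹ * x ∈ center L := mem_center_iff.2 fun y => by
      obtain ⟨y', rfl⟩ := (f : MulAut L).surjective y
      have h2 : x * (f : MulAut L) y' * x⁻¹ = (f : MulAut L) (x * y' * x⁻¹) := by
        simpa [φ] using congrArg (fun u : MulAut L => u y') h1
      rw [map_mul, map_mul, map_inv] at h2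
      set a := (f : MulAut L) x
      set b := (f : MulAut L) y'
      calc b * (a⁻¹ * x) = a⁻¹ * (a * b * a⁻¹) * x := by group
        _ = a⁻¹ * (x * b * x⁻¹) * x := by rw [h2]
        _ = a⁻¹ * x * b := by group
    rw [Transfer.CentralFour.center_eq_bot hL, mem_bot, inv_mul_eq_one] at h3
    exact h3
  have hO : Cfsg.pPrimeCore 2 ↥N = ⊥ := by
    haveI : (Cfsg.pPrimeCore 2 ↥N).Normal := Grp.pPrimeCore_isNormal
    let e : L →* ↥N := φ.rangeRestrict
    have hei : Function.Injective e := fun a b h => hφi (congrArg Subtype.val h)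
    have h1 : (Cfsg.pPrimeCore 2 ↥N).comap e ≤ Cfsg.pPrimeCore 2 L :=
      Grp.le_pPrimeCore inferInstance (Nat.Coprime.coprime_dvd_left
        (card_comap_dvd_of_injective _ e hei) Grp.pPrimeCore_coprime)
    rw [Invol.GW.CentralFour.pPrimeCore_eq_bot h2, le_bot_iff] at h1
    rw [← map_comap_eq_self_of_surjective φ.rangeRestrict_surjective (Cfsg.pPrimeCore 2 ↥N)]
    show ((Cfsg.pPrimeCore 2 ↥N).comap e).map e = ⊥
    rw [h1, Subgroup.map_bot]
  -- the Sylow subgroup of `J`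
  set P' := (P : Subgroup L).map φ
  have hcomm : ∀ t ∈ (P : Subgroup L), Commute αJ (φ t) := fun t ht => Subtype.ext (MulEquiv.ext fun x => by
    simp [φ, αJ, hfix t ht])
  have hp : IsPGroup 2 ↥(P' ⊔ zpowers αJ) := by
    refine IsPGroup.to_sup_of_normal_left' (P.isPGroup'.map φ) ?_ (zpowers_le.2 ?_)
    · obtain ⟨i, hi⟩ := hα
      have hi' : αJ ^ 2 ^ i = 1 := Subtype.ext (by simpa [αJ] using hi)
      intro z
      obtain ⟨k, hk⟩ := mem_zpowers_iff.1 z.2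
      refine ⟨i, Subtype.ext ?_⟩
      rw [Subgroup.coe_pow, ← hk, ← zpow_natCast, zpow_comm, zpow_natCast, hi', one_zpow, Subgroup.coe_one]
    · exact centralizer_le_normalizer _ (mem_centralizer_iff.2 fun y hy => by
        obtain ⟨t, ht, rfl⟩ := hy
        exact (hcomm t ht).symm.eq)
  obtain ⟨Q, hQ⟩ := hp.exists_le_sylow
  have hαQ : αJ ∈ (Q : Subgroup ↥J) := hQ (mem_sup_right (mem_zpowers αJ))
  have hQN : ∀ g : L, φ g ∈ (Q : Subgroup ↥J) → g ∈ (P : Subgroup L) := fun g hg =>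
    (P.3 (Q.isPGroup'.comap_of_injective φ hφi) fun t ht =>
      hQ (mem_sup_left (mem_map_of_mem φ ht))).le hg
  have hQform : ∀ q ∈ (Q : Subgroup ↥J), ∃ t ∈ (P : Subgroup L), ∃ i : ℤ, q = φ t * αJ ^ i := by
    intro q hq
    obtain ⟨_, ⟨g, rfl⟩, i, e⟩ := hgen q
    refine ⟨g, hQN g ?_, i, e⟩
    have := mul_mem hq (inv_mem (zpow_mem hαQ i))
    rwa [e, mul_inv_cancel_right] at this
  have hQc : IsMulCommutative ↥(Q : Subgroup ↥J) := ⟨⟨fun a b => Subtype.ext (by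
    obtain ⟨t, ht, i, ea⟩ := hQform a a.2
    obtain ⟨s, hs, j, eb⟩ := hQform b b.2
    show (a : ↥J) * b = b * a
    have c1 : Commute (φ t) (φ s) := by
      show φ t * φ s = φ s * φ t
      rw [← map_mul, ← map_mul, hP t ht s hs]
    have h : Commute (φ t * αJ ^ i) (φ s * αJ ^ j) :=
      (c1.mul_right ((hcomm t ht).symm.zpow_right j)).mul_left
        (((hcomm s hs).zpow_left i).mul_right ((Commute.refl αJ).zpow_zpow i j))
    rw [ea, eb]; exact h)⟩⟩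
  have hNQ : N ⊔ (Q : Subgroup ↥J) = ⊤ := eq_top_iff.2 fun j _ => by
    obtain ⟨n, hn, i, rfl⟩ := hgen j
    exact mul_mem_sup hn (zpow_mem hαQ i)
  obtain ⟨g, hg⟩ := sylow_le_of_abelian N hc hO Q hQc hNQ hαQ
  exact ⟨g, hQN g (hg ▸ hαQ), (congrArg Subtype.val hg).symm⟩

end Abelian

section StronglyEmbedded

variable {L : Type u} [Group L] [Finite L]

/-- Facts on the involutions `W` of a Sylow subgroup of a Bender group. -/
theorem bender_facts (hB : Invol.CentInt.IsBenderGrp L) (P : Sylow 2 L) {W : Subgroup L}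
    (hW : ∀ x, x ∈ W ↔ x ∈ (P : Subgroup L) ∧ x * x = 1) :
    (∀ w ∈ W, ∀ s ∈ (P : Subgroup L), s * w = w * s) ∧
    (∀ a ∈ (P : Subgroup L), ∀ b ∈ (P : Subgroup L), ⁅a, b⁆ ∈ W) ∧
    (∀ a ∈ W, ∀ b ∈ W, a ≠ 1 → b ≠ 1 →
      ∃ g ∈ normalizer ((P : Subgroup L) : Set L), g * a * g⁻¹ = b) ∧
    ∀ t ∈ (P : Subgroup L),
      (∀ n ∈ normalizer ((P : Subgroup L) : Set L), t⁻¹ * (n * t * n⁻¹) ∈ W) → t ∈ W := by
  haveI : Fact (Nat.Prime 2) := ⟨Nat.prime_two⟩
  obtain ⟨W', hW'P, hW'2, hW'mem, hWc, htr⟩ := Gold.exists_omega hB P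
  have e : W' = W := Subgroup.ext fun x => by
    rw [hW]; exact ⟨fun h => ⟨hW'P h, hW'2 x h⟩, fun h => hW'mem x h.1 h.2⟩
  subst e
  obtain ⟨Pb, V, hp, hi, -, hV2, -, hVinv, hcom, -, -, d, e, hd, he, hde, -⟩ :=
    Invol.BenderCover.torusSylow_bender hB
  obtain ⟨g, hg⟩ := MulAction.exists_smul_eq L (hp.toSylow hi) P
  have hP : (P : Subgroup L) = Pb.map (MulAut.conj g).toMonoidHom := by
    rw [← hg, Sylow.coe_subgroup_smul]; rfl
  have hPmem : ∀ x ∈ (P : Subgroup L), g⁻¹ * x * g ∈ Pb := by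
    intro x hx
    rw [hP] at hx
    obtain ⟨y, hy, rfl⟩ := hx
    show g⁻¹ * (g * y * g⁻¹) * g ∈ Pb
    rwa [show g⁻¹ * (g * y * g⁻¹) * g = y by group]
  have hPb : ∀ y ∈ Pb, g * y * g⁻¹ ∈ (P : Subgroup L) := fun y hy => hP ▸ ⟨y, hy, rfl⟩
  have hWV : ∀ x ∈ W', g⁻¹ * x * g ∈ V := fun x hx => hVinv _ (hPmem x (hW'P hx)) (by
    rw [show g⁻¹ * x * g * (g⁻¹ * x * g) = g⁻¹ * (x * x) * g by group, hW'2 x hx]; group)
  refine ⟨hWc, fun a ha b hb => ?_, htr, fun t ht hn => ?_⟩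
  · have h1 := hcom _ (hPmem a ha) _ (hPmem b hb)
    refine hW'mem _ ?_ ?_
    · rw [commutatorElement_def]; exact mul_mem (mul_mem (mul_mem ha hb) (inv_mem ha)) (inv_mem hb)
    · have h2 := hV2 _ h1
      rw [commutatorElement_def] at h2 ⊢
      calc a * b * a⁻¹ * b⁻¹ * (a * b * a⁻¹ * b⁻¹)
          = g * ((g⁻¹ * a * g) * (g⁻¹ * b * g) * (g⁻¹ * a * g)⁻¹ * (g⁻¹ * b * g)⁻¹ *
              ((g⁻¹ * a * g) * (g⁻¹ * b * g) * (g⁻¹ * a * g)⁻¹ * (g⁻¹ * b * g)⁻¹)) * g⁻¹ := by group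
        _ = 1 := by rw [h2]; group
  · have hmove : ∀ x : L, (∀ y ∈ Pb, x * y * x⁻¹ ∈ Pb) →
        (g⁻¹ * t * g)⁻¹ * (x * (g⁻¹ * t * g) * x⁻¹) ∈ V := fun x hx => by
      have hxN : g * x * g⁻¹ ∈ normalizer ((P : Subgroup L) : Set L) := mem_normalizer_fintype fun y hy => by
        show g * x * g⁻¹ * y * (g * x * g⁻¹)⁻¹ ∈ (P : Subgroup L)
        rw [show g * x * g⁻¹ * y * (g * x * g⁻¹)⁻¹ = g * (x * (g⁻¹ * y * g) * x⁻¹) * g⁻¹ by group]
        exact hPb _ (hx _ (hPmem y hy))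
      have := hWV _ (hn _ hxN)
      rwa [show g⁻¹ * (t⁻¹ * (g * x * g⁻¹ * t * (g * x * g⁻¹)⁻¹)) * g =
        (g⁻¹ * t * g)⁻¹ * (x * (g⁻¹ * t * g) * x⁻¹) by group] at this
    set u := g⁻¹ * t * g with hu
    have hv1 := hmove d hd
    have hv2 := hmove e he
    have h3 := hde u (hPmem t ht)
    have h4 : u ∈ V := by
      have h5 := mul_mem (mul_mem hv2 h3) (inv_mem hv1)
      rwa [show u⁻¹ * (e * u * e⁻¹) * ((e * u * e⁻¹)⁻¹ * (u * (d * u * d⁻¹))) *
        (u⁻¹ * (d * u * d⁻¹))⁻¹ = u by group] at h5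
    refine hW'mem t ht ?_
    calc t * t = g * (u * u) * g⁻¹ := by rw [hu]; group
      _ = 1 := by rw [hV2 u h4]; group

variable [IsSimpleGroup L]

/-- An element of `N(P)` acting trivially on `P/W` lies in `P`. -/
theorem mem_of_centralizes_quotient (hL : ¬ IsMulCommutative L) {H : Subgroup L}
    (hH : Cfsg.IsStronglyEmbedded H) (P : Sylow 2 L) {W : Subgroup L}
    (hW : ∀ x, x ∈ W ↔ x ∈ (P : Subgroup L) ∧ x * x = 1) (hne : ∃ t ∈ (P : Subgroup L), t ∉ W) {μ : L}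
    (hμ : μ ∈ normalizer ((P : Subgroup L) : Set L))
    (h : ∀ t ∈ (P : Subgroup L), t⁻¹ * (μ * t * μ⁻¹) ∈ W) : μ ∈ (P : Subgroup L) := by
  haveI : Fact (Nat.Prime 2) := ⟨Nat.prime_two⟩
  obtain ⟨hWc, -, htr, -⟩ := bender_facts (Gold.bender_of_se hL hH).1 P hW
  obtain ⟨a, b, hb, hab⟩ := Nat.exists_eq_two_pow_mul_odd (orderOf_pos μ).ne'
  set h0 := μ ^ 2 ^ a with hh0
  have hN0 : h0 ∈ normalizer ((P : Subgroup L) : Set L) := pow_mem hμ _
  have hpow : ∀ k : ℕ, ∀ t ∈ (P : Subgroup L), t⁻¹ * (μ ^ k * t * (μ ^ k)⁻¹) ∈ W := by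
    intro k
    induction k with
    | zero => intro t _; simp
    | succ k ih =>
      intro t ht
      have ht' : μ * t * μ⁻¹ ∈ (P : Subgroup L) := (mem_normalizer_iff.1 hμ t).1 ht
      rw [show t⁻¹ * (μ ^ (k + 1) * t * (μ ^ (k + 1))⁻¹) =
        t⁻¹ * (μ * t * μ⁻¹) * ((μ * t * μ⁻¹)⁻¹ * (μ ^ k * (μ * t * μ⁻¹) * (μ ^ k)⁻¹)) by
          rw [pow_succ]; group]
      exact mul_mem (h t ht) (ih _ ht')
  -- some element outside `W` has its square in `W`
  obtain ⟨t₁, ht₁P, ht₁W, ht₁⟩ : ∃ t ∈ (P : Subgroup L), t ∉ W ∧ t * t ∈ W := by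
    obtain ⟨t, ht, htW⟩ := hne
    obtain ⟨i, hi⟩ := P.isPGroup' ⟨t, ht⟩
    replace hi : t ^ 2 ^ i = 1 := congrArg Subtype.val hi
    induction i generalizing t with
    | zero => exact absurd (by rw [pow_zero, pow_one] at hi; exact hi ▸ one_mem W) htW
    | succ i ih =>
      by_cases h2 : t * t ∈ W
      · exact ⟨t, ht, htW, h2⟩
      · exact ih (t * t) (mul_mem ht ht) h2 (by rw [← pow_two, ← pow_mul, ← pow_succ']; exact hi)
  have hsq : t₁ * t₁ ≠ 1 := fun e => ht₁W ((hW t₁).2 ⟨ht₁P, e⟩)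
  have hfixW : ∀ w ∈ W, h0 * w * h0⁻¹ = w := by
    intro w hw
    by_cases hw1 : w = 1
    · rw [hw1]; group
    obtain ⟨g, hg, hgw⟩ := htr _ ht₁ w hw hsq hw1
    set s := g * t₁ * g⁻¹ with hs
    have hsP : s ∈ (P : Subgroup L) := (mem_normalizer_iff.1 hg t₁).1 ht₁P
    have hsw : s * s = w := by rw [← hgw, hs]; group
    set v := s⁻¹ * (h0 * s * h0⁻¹) with hv
    have hvW : v ∈ W := hpow _ s hsP
    calc h0 * w * h0⁻¹ = (h0 * s * h0⁻¹) * (h0 * s * h0⁻¹) := by rw [← hsw]; group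
      _ = s * v * (s * v) := by rw [hv]; group
      _ = s * (v * s) * v := by group
      _ = s * (s * v) * v := by rw [hWc v hvW s hsP]
      _ = (s * s) * (v * v) := by group
      _ = w := by rw [((hW v).1 hvW).2, mul_one, hsw]
  have hfix : ∀ t ∈ (P : Subgroup L), h0 * t * h0⁻¹ = t := by
    intro t ht
    set v := t⁻¹ * (h0 * t * h0⁻¹) with hv
    have hvW : v ∈ W := hpow _ t ht
    have hk : ∀ k : ℕ, h0 ^ k * t * (h0 ^ k)⁻¹ = t * v ^ k := by
      intro k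
      induction k with
      | zero => simp
      | succ k ih =>
        calc h0 ^ (k + 1) * t * (h0 ^ (k + 1))⁻¹ = h0 * (h0 ^ k * t * (h0 ^ k)⁻¹) * h0⁻¹ := by
              rw [pow_succ']; group
          _ = h0 * t * h0⁻¹ * (h0 * v ^ k * h0⁻¹) := by rw [ih]; group
          _ = t * v * v ^ k := by rw [hfixW _ (pow_mem hvW k), hv]; group
          _ = _ := by rw [mul_assoc, pow_succ']
    have h1 : h0 ^ b = 1 := by rw [hh0, ← pow_mul, ← hab, pow_orderOf_eq_one]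
    have hb1 := hk b
    rw [h1, one_mul, inv_one, mul_one, left_eq_mul] at hb1
    have hv1 : v = 1 := by
      obtain ⟨c, rfl⟩ := hb
      rwa [pow_succ, pow_mul, pow_two, ((hW v).1 hvW).2, one_pow, one_mul] at hb1
    rwa [hv1, eq_comm, inv_mul_eq_one, eq_comm] at hv
  have hodd : Odd (orderOf (MulAut.conj h0)) := by
    refine hb.of_dvd_nat ((orderOf_map_dvd MulAut.conj h0).trans (orderOf_dvd_of_pow_eq_one ?_))
    rw [hh0, ← pow_mul, ← hab, pow_orderOf_eq_one]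
  have hc1 := Gold.eq_one_of_fix_sylow_se hL hH P (MulAut.conj h0) hodd hfix
  have hh1 : h0 = 1 := by
    have hz : h0 ∈ center L := mem_center_iff.2 fun x => by
      have h1 : MulAut.conj h0 x = x := by rw [hc1]; rfl
      rw [MulAut.conj_apply, mul_inv_eq_iff_eq_mul] at h1
      exact h1.symm
    rw [Transfer.CentralFour.center_eq_bot hL] at hz
    exact mem_bot.1 hz
  obtain ⟨i, -, hi⟩ := (Nat.dvd_prime_pow Nat.prime_two).1 (orderOf_dvd_of_pow_eq_one (hh0 ▸ hh1))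
  have hp : IsPGroup 2 (zpowers μ) := IsPGroup.of_card (n := i) (by rw [Nat.card_zpowers, hi])
  have := P.3 (hp.to_sup_of_normal_right' P.isPGroup' (zpowers_le.2 hμ)) le_sup_right
  exact this ▸ mem_sup_left (mem_zpowers μ)

/-- An automorphism trivial on `W` and on `P/W` is inner by an element of `W` as soon as its commutators with
`N(P)` that fall in `P` fall in `W`. -/
theorem inner_of_twist (hL : ¬ IsMulCommutative L) {H : Subgroup L} (hH : Cfsg.IsStronglyEmbedded H)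
    (P : Sylow 2 L) {W : Subgroup L} (hW : ∀ x, x ∈ W ↔ x ∈ (P : Subgroup L) ∧ x * x = 1)
    (hne : ∃ t ∈ (P : Subgroup L), t ∉ W) (α : MulAut L) (hαW : ∀ w ∈ W, α w = w)
    (hαP : ∀ t ∈ (P : Subgroup L), t⁻¹ * α t ∈ W)
    (hlift : ∀ n ∈ normalizer ((P : Subgroup L) : Set L), n⁻¹ * α n ∈ (P : Subgroup L) → n⁻¹ * α n ∈ W) :
    ∃ w ∈ W, α = MulAut.conj w := by
  haveI : Fact (Nat.Prime 2) := ⟨Nat.prime_two⟩
  have hB := (Gold.bender_of_se hL hH).1
  obtain ⟨hWc, hcom, -, hnofix⟩ := bender_facts hB P hW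
  have hWP : W ≤ (P : Subgroup L) := fun w hw => ((hW w).1 hw).1
  have hW2 : ∀ w ∈ W, w * w = 1 := fun w hw => ((hW w).1 hw).2
  have hWn : ∀ n ∈ normalizer ((P : Subgroup L) : Set L), ∀ w ∈ W, n * w * n⁻¹ ∈ W := fun n hn w hw =>
    (hW _).2 ⟨(mem_normalizer_iff.1 hn w).1 (hWP hw), by
      rw [show n * w * n⁻¹ * (n * w * n⁻¹) = n * (w * w) * n⁻¹ by group, hW2 w hw]; group⟩
  have hαmem : ∀ t ∈ (P : Subgroup L), α t ∈ (P : Subgroup L) := fun t ht => by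
    simpa using mul_mem ht (hWP (hαP t ht))
  have hαN : ∀ n ∈ normalizer ((P : Subgroup L) : Set L), α n ∈ normalizer ((P : Subgroup L) : Set L) := by
    intro n hn
    refine mem_normalizer_fintype fun x hx => ?_
    obtain ⟨t, rfl⟩ := α.surjective x
    have htP : t ∈ (P : Subgroup L) := by
      have hle : (P : Subgroup L).map α.toMonoidHom ≤ (P : Subgroup L) := by
        rintro _ ⟨y, hy, rfl⟩; exact hαmem y hy
      have e := eq_of_le_of_card_ge hle (card_map_of_injective α.injective).ge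
      obtain ⟨y, hy, hye⟩ := e.ge hx
      exact α.injective hye ▸ hy
    show α n * α t * (α n)⁻¹ ∈ (P : Subgroup L)
    rw [← map_inv, ← map_mul, ← map_mul]
    exact hαmem _ ((mem_normalizer_iff.1 hn t).1 htP)
  have hμ : ∀ n ∈ normalizer ((P : Subgroup L) : Set L), n⁻¹ * α n ∈ W := by
    intro n hn
    refine hlift n hn (mem_of_centralizes_quotient hL hH P hW hne (mul_mem (inv_mem hn) (hαN n hn))
      fun t ht => ?_)
    set s := n * t * n⁻¹ with hs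
    have hsP : s ∈ (P : Subgroup L) := (mem_normalizer_iff.1 hn t).1 ht
    set v := s⁻¹ * α s with hv
    have hvW : v ∈ W := hαP s hsP
    set u := t⁻¹ * α t with hu
    have huW : u ∈ W := hαP t ht
    have hαn := hαN n hn
    have e1 : t⁻¹ * (n⁻¹ * α n * t * (n⁻¹ * α n)⁻¹) = (n⁻¹ * v * n) * (n⁻¹ * α n * u * (n⁻¹ * α n)⁻¹)⁻¹ := by
      have e2 : α s = α n * α t * (α n)⁻¹ := by rw [hs, map_mul, map_mul, map_inv]
      rw [hv, hu, e2, hs]; group
    rw [e1]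
    refine mul_mem ?_ (inv_mem (hWn _ (mul_mem (inv_mem hn) hαn) u huW))
    have := hWn n⁻¹ (inv_mem hn) v hvW
    rwa [inv_inv] at this
  let φ : ↥(P : Subgroup L) →* ↥(P : Subgroup L) := MonoidHom.mk'
    (fun t => ⟨(t : L)⁻¹ * α t, hWP (hαP t t.2)⟩) fun s t => Subtype.ext (by
      show ((s : L) * t)⁻¹ * α ((s : L) * t) = (s : L)⁻¹ * α s * ((t : L)⁻¹ * α t)
      rw [map_mul, mul_inv_rev]
      calc (t : L)⁻¹ * (s : L)⁻¹ * (α s * α t) = ((t : L)⁻¹ * ((s : L)⁻¹ * α s)) * α t := by group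
        _ = (((s : L)⁻¹ * α s) * (t : L)⁻¹) * α t := by rw [hWc _ (hαP s s.2) _ (inv_mem t.2)]
        _ = _ := by group)
  have hφ := Gold.noTwist hB P φ (fun t => Subtype.ext (hW2 _ (hαP t t.2)))
    (fun t ht => Subtype.ext (by
      show (t : L)⁻¹ * α t = 1
      rw [hαW t ((hW t).2 ⟨t.2, congrArg Subtype.val ht⟩), inv_mul_cancel]))
    (fun g t t' hg e => by
      show (t' : L)⁻¹ * α t' = g * ((t : L)⁻¹ * α t) * g⁻¹
      set w := g⁻¹ * α g with hw
      have hwW : w ∈ W := hμ g hg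
      have hαt : α (t : L) * w⁻¹ = w⁻¹ * α t := hWc _ (inv_mem hwW) _ (hαmem t t.2)
      have e2 : α g = g * w := by rw [hw]; group
      rw [e, map_mul, map_mul, map_inv, e2]
      calc (g * (t : L) * g⁻¹)⁻¹ * (g * w * α t * (g * w)⁻¹)
          = g * (t : L)⁻¹ * w * (α t * w⁻¹) * g⁻¹ := by group
        _ = _ := by rw [hαt]; group)
  have hfix : ∀ t ∈ (P : Subgroup L), α t = t := fun t ht =>
    (inv_mul_eq_one.1 (congrArg Subtype.val (hφ ⟨t, ht⟩))).symm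
  obtain ⟨hfree, htrans, Q, hQ⟩ := Gold.regular_of_se hL hH P
  set Q' : Sylow 2 L := Q.mapSurjective (f := α.toMonoidHom) α.surjective with hQ'def
  have hQ' : (Q' : Subgroup L) = (Q : Subgroup L).map α.toMonoidHom := Sylow.coe_mapSurjective _ _
  have hQ'P : Q' ≠ P := fun h => hQ (Sylow.ext (map_injective (f := α.toMonoidHom) α.injective (by
    rw [← hQ', h]
    ext x
    exact ⟨fun hx => ⟨x, hx, hfix x hx⟩, by rintro ⟨t, ht, rfl⟩; exact (hfix t ht).symm ▸ ht⟩)))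
  obtain ⟨t₀, ht₀, ht₀Q⟩ := htrans Q Q' hQ hQ'P
  have hsmul : ∀ d : L, d • Q = Q → α d • Q' = Q' := by
    intro d hd
    refine Sylow.smul_eq_iff_mem_normalizer.2 (mem_normalizer_fintype fun x hx => ?_)
    obtain ⟨y, hy, rfl⟩ := hQ'.le hx
    show α d * α y * (α d)⁻¹ ∈ (Q' : Subgroup L)
    rw [hQ', ← map_inv, ← map_mul, ← map_mul]
    exact mem_map_of_mem _ ((mem_normalizer_iff.1 (Sylow.smul_eq_iff_mem_normalizer.1 hd) y).1 hy)
  have ht₀W : t₀ ∈ W := by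
    refine hnofix t₀ ht₀ fun n hn => ?_
    have hnQ : n • Q ≠ P := fun h => hQ (smul_left_cancel n
      (h.trans (Sylow.smul_eq_iff_mem_normalizer.2 hn).symm))
    obtain ⟨p, hp, hpQ⟩ := htrans Q (n • Q) hQ hnQ
    set d := p⁻¹ * n with hd
    have hdQ : d • Q = Q := by rw [hd, mul_smul, ← hpQ, inv_smul_smul]
    have hdN : d ∈ normalizer ((P : Subgroup L) : Set L) := mul_mem (inv_mem (le_normalizer hp)) hn
    set w := d⁻¹ * α d with hw
    have hwW : w ∈ W := hμ d hdN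
    have h1 := hsmul d hdQ
    rw [← ht₀Q, show α d = d * w by rw [hw]; group] at h1
    have h2 : (t₀⁻¹ * (d * (w * t₀) * d⁻¹)) • Q = Q := by
      calc (t₀⁻¹ * (d * (w * t₀) * d⁻¹)) • Q = (t₀⁻¹ * (d * w * t₀)) • (d⁻¹ • Q) := by
            rw [smul_smul]; congr 1; group
        _ = (t₀⁻¹ * (d * w * t₀)) • Q := by
            conv_lhs => rw [← hdQ, inv_smul_smul]
        _ = Q := by rw [mul_smul, mul_smul, h1, inv_smul_smul]
    have h3 := hfree Q hQ _ (mul_mem (inv_mem ht₀)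
      ((mem_normalizer_iff.1 hdN _).1 (mul_mem (hWP hwW) ht₀))) h2
    rw [inv_mul_eq_one] at h3
    have h4 : t₀⁻¹ * (d * t₀ * d⁻¹) ∈ W := by
      rw [show t₀⁻¹ * (d * t₀ * d⁻¹) = t₀⁻¹ * ((d * w⁻¹ * d⁻¹) * (d * (w * t₀) * d⁻¹)) by group, ← h3,
        ← hWc _ (hWn d hdN _ (inv_mem hwW)) t₀ ht₀, inv_mul_cancel_left]
      exact hWn d hdN _ (inv_mem hwW)
    set z := t₀⁻¹ * (d * t₀ * d⁻¹) with hz
    have e : t₀⁻¹ * (n * t₀ * n⁻¹) = ⁅t₀⁻¹, p⁆ * z := by
      calc t₀⁻¹ * (n * t₀ * n⁻¹) = t₀⁻¹ * p * t₀ * z * p⁻¹ := by rw [hz, hd]; group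
        _ = t₀⁻¹ * p * t₀ * (z * p⁻¹) := by group
        _ = t₀⁻¹ * p * t₀ * (p⁻¹ * z) := by rw [hWc z h4 _ (inv_mem hp)]
        _ = _ := by rw [commutatorElement_def]; group
    rw [e]
    exact mul_mem (hcom _ (inv_mem ht₀) _ hp) h4
  refine ⟨t₀, ht₀W, ?_⟩
  have hone : (MulAut.conj t₀)⁻¹ * α = 1 := by
    refine Gold.eq_one_of_fix_point hL hH P _ (fun t ht => ?_) Q hQ ?_
    · show (MulAut.conj t₀)⁻¹ (α t) = t
      rw [hfix t ht, MulAut.conj_inv_apply, mul_assoc, hWc t₀ ht₀W t ht, inv_mul_cancel_left]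
    · rw [show ((MulAut.conj t₀)⁻¹ * α).toMonoidHom =
        (MulAut.conj t₀)⁻¹.toMonoidHom.comp α.toMonoidHom from rfl, ← map_map, ← hQ', ← ht₀Q,
        Sylow.coe_subgroup_smul, ← Grp.map_conj_eq_smul, map_map]
      refine (congrArg (fun f => (Q : Subgroup L).map f) ?_).trans (map_id _)
      exact MonoidHom.ext fun x => by simp [MulAut.conj_inv_apply, mul_assoc]
  rw [inv_mul_eq_one] at hone
  exact hone.symm

/-- Two subgroups of `P` outside `W` which are kept by `N(P)` do not commute. -/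
theorem exists_not_commute_torus (P : Subgroup L) (hP : IsPGroup 2 P) (hd : Invol.CentRank.Cyc.TorusData P) {U V : Subgroup L}
    (hU : U ≤ P) (hV : V ≤ P)
    (hUn : ∀ n ∈ normalizer (P : Set L), ∀ x ∈ U, n * x * n⁻¹ ∈ U)
    (hVn : ∀ n ∈ normalizer (P : Set L), ∀ x ∈ V, n * x * n⁻¹ ∈ V)
    (hu : ∃ u ∈ U, u * u ≠ 1) (hv : ∃ v ∈ V, v * v ≠ 1) : ∃ u ∈ U, ∃ v ∈ V, u * v ≠ v * u := by
  by_contra hno
  push Not at hno
  obtain ⟨W, h, hWP, hW2, hWc, hinv, hn, -, -, hirr, m, hm, hsur⟩ := hd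
  have hhN : h ∈ normalizer (P : Set L) := mem_normalizer_fintype hn
  have hWh : ∀ w ∈ W, h * w * h⁻¹ ∈ W := fun w hw => hinv _ (hn w (hWP hw)) (by
    rw [show h * w * h⁻¹ * (h * w * h⁻¹) = h * (w * w) * h⁻¹ by group, hW2 w hw]; group)
  have htop : ∀ Y : Subgroup L, Y ≤ P → (∀ n ∈ normalizer (P : Set L), ∀ x ∈ Y, n * x * n⁻¹ ∈ Y) →
      (∃ y ∈ Y, y * y ≠ 1) → Y ⊔ W = P := by
    rintro Y hY hYn ⟨y, hy, hy1⟩
    refine hirr _ le_sup_right (sup_le hY hWP) (fun x hx => ?_) fun e => hy1 (hW2 y ?_)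
    · have hle : (Y ⊔ W).map (MulAut.conj h).toMonoidHom ≤ Y ⊔ W := by
        rw [Subgroup.map_sup]
        refine sup_le_sup ?_ ?_
        · rintro _ ⟨z, hz, rfl⟩; exact hYn h hhN z hz
        · rintro _ ⟨z, hz, rfl⟩; exact hWh z hz
      exact hle ⟨x, hx, rfl⟩
    · rw [← e]; exact mem_sup_left hy
  have hPc : ∀ x ∈ P, ∀ z ∈ P, x * z = z * x := by
    have h1 : U ⊔ W ≤ centralizer ((V ⊔ W : Subgroup L) : Set L) := by
      rw [le_centralizer_iff]
      refine sup_le (fun v hv => ?_) (fun w hw => mem_centralizer_iff.2 fun x hx =>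
        hWc w hw x ((sup_le hU hWP) hx))
      refine mem_centralizer_iff.2 fun x hx => ?_
      have h2 : U ⊔ W ≤ centralizer ({v} : Set L) := sup_le
        (fun u hu => mem_centralizer_singleton_iff.2 (hno u hu v hv))
        fun w hw => mem_centralizer_singleton_iff.2 (hWc w hw v (hV hv)).symm
      exact mem_centralizer_singleton_iff.1 (h2 hx)
    rw [htop U hU hUn hu, htop V hV hVn hv] at h1
    exact fun x hx z hz => (mem_centralizer_iff.1 (h1 hx) z hz).symm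
  -- squares lie in `W`
  let Ω : Subgroup L :=
    { carrier := {x | x ∈ P ∧ x * x ∈ W}
      one_mem' := ⟨one_mem P, by simp⟩
      mul_mem' := fun {a b} ha hb => ⟨mul_mem ha.1 hb.1, by
        rw [show a * b * (a * b) = a * (b * a) * b by group, hPc b hb.1 a ha.1,
          show a * (a * b) * b = (a * a) * (b * b) by group]
        exact mul_mem ha.2 hb.2⟩
      inv_mem' := fun {a} ha => ⟨inv_mem ha.1, by rw [← mul_inv_rev]; exact inv_mem ha.2⟩ }
  obtain ⟨u, hu, hu1⟩ := hu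
  by_cases hΩW : Ω = W
  · -- no element of order four, against `u`
    have key : ∀ (i : ℕ) (x : L), x ∈ P → x ^ 2 ^ i = 1 → x ∈ W := by
      intro i
      induction i with
      | zero => intro x _ hx; rw [pow_zero, pow_one] at hx; exact hx ▸ one_mem W
      | succ i ih =>
        intro x hx hxi
        exact hΩW.le ⟨hx, ih _ (mul_mem hx hx) (by rw [← pow_two, ← pow_mul, ← pow_succ']; exact hxi)⟩
    obtain ⟨i, hi⟩ := hP ⟨u, hU hu⟩
    replace hi : u ^ 2 ^ i = 1 := congrArg Subtype.val hi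
    exact hu1 (hW2 u (key i u (hU hu) hi))
  have hΩP : Ω = P := hirr Ω (fun w hw => ⟨hWP hw, by rw [hW2 w hw]; exact one_mem W⟩) (fun x hx => hx.1)
    (fun x hx => ⟨hn x hx.1, by
      rw [show h * x * h⁻¹ * (h * x * h⁻¹) = h * (x * x) * h⁻¹ by group]; exact hWh _ hx.2⟩) hΩW
  have hmem : ∀ k : ℕ, ∀ x ∈ P, h ^ k * x * (h ^ k)⁻¹ ∈ P := fun k x hx =>
    (mem_normalizer_iff.1 (pow_mem hhN k) x).1 hx
  obtain ⟨x, hx, hxy⟩ := hsur u (hU hu)
  have hf : x⁻¹ * (h ^ m * x * (h ^ m)⁻¹) ∈ W := by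
    refine hinv _ (mul_mem (inv_mem hx) (hmem m x hx)) ?_
    set c := h ^ m * x * (h ^ m)⁻¹ with hc
    have hcx : c * c = x * x := by
      rw [hc, show h ^ m * x * (h ^ m)⁻¹ * (h ^ m * x * (h ^ m)⁻¹) = h ^ m * (x * x) * (h ^ m)⁻¹ by group]
      exact hm _ (hΩP.ge hx).2
    calc x⁻¹ * c * (x⁻¹ * c) = x⁻¹ * (c * x⁻¹) * c := by group
      _ = x⁻¹ * (x⁻¹ * c) * c := by rw [hPc _ (hmem m x hx) _ (inv_mem hx)]
      _ = x⁻¹ * x⁻¹ * (c * c) := by group
      _ = 1 := by rw [hcx]; group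
  refine hu1 (hW2 u ?_)
  have := mul_mem hf (inv_mem hxy)
  rwa [show x⁻¹ * (h ^ m * x * (h ^ m)⁻¹) * (u⁻¹ * (x⁻¹ * (h ^ m * x * (h ^ m)⁻¹)))⁻¹ = u by group] at this

/-- The same in a Suzuki group. -/
theorem exists_not_commute_sz {F : Type} [Field F] [Fintype F] {m : ℕ} (hS : Suz.SzField F m)
    {U V : Subgroup ↥(Cfsg.Sz F m)} (hU : U ≤ Suz.unip hS) (hV : V ≤ Suz.unip hS)
    (hUn : ∀ n ∈ normalizer (Suz.unip hS : Set ↥(Cfsg.Sz F m)), ∀ x ∈ U, n * x * n⁻¹ ∈ U)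
    (hVn : ∀ n ∈ normalizer (Suz.unip hS : Set ↥(Cfsg.Sz F m)), ∀ x ∈ V, n * x * n⁻¹ ∈ V)
    (hu : ∃ u ∈ U, u * u ≠ 1) (hv : ∃ v ∈ V, v * v ≠ 1) : ∃ u ∈ U, ∃ v ∈ V, u * v ≠ v * u := by
  haveI := Suz.charP hS
  have key : ∀ Y : Subgroup ↥(Cfsg.Sz F m), Y ≤ Suz.unip hS →
      (∀ n ∈ normalizer (Suz.unip hS : Set ↥(Cfsg.Sz F m)), ∀ x ∈ Y, n * x * n⁻¹ ∈ Y) →
      (∃ y ∈ Y, y * y ≠ 1) → ∀ c : F, c ≠ 0 → ∃ b, Suz.uS hS c b ∈ Y := by
    rintro Y hY hYn ⟨y, hy, hy1⟩ c hc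
    obtain ⟨a, b, rfl⟩ := (Suz.mem_unip hS).1 (hY hy)
    have ha : a ≠ 0 := fun e => hy1 (by
      rw [e, Suz.uS_mul, Suz.th_zero, zero_mul, add_zero, add_zero, CharTwo.add_self_eq_zero, Suz.uS_zero])
    obtain ⟨z, hz⟩ := Suz.exists_par hS (Units.mk0 (c / a) (div_ne_zero hc ha))
    rw [Units.val_mk0] at hz
    have h1 := hYn _ (Suz.borel_le_normalizer hS (Suz.hTor_mem_borel hS z)) _ hy
    rw [Suz.hTor_conj, hz, div_mul_cancel₀ _ ha] at h1
    exact ⟨_, h1⟩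
  obtain ⟨c, hc0, hc1⟩ := Suz.exists_ne_zero_one hS
  obtain ⟨b, hb⟩ := key U hU hUn hu 1 one_ne_zero
  obtain ⟨b', hb'⟩ := key V hV hVn hv c hc0
  refine ⟨_, hb, _, hb', fun e => ?_⟩
  rw [Suz.uS_mul, Suz.uS_mul, Suz.th_one, one_mul, mul_one] at e
  have h2 := (Suz.uS_injective hS e).2
  rcases Suz.th_fixed hS (x := c) (by linear_combination -h2) with h | h
  · exact hc0 h
  · exact hc1 h

variable [IsSimpleGroup L]

/-- Two subgroups of `P` with elements of order four which are kept by `N(P)` do not commute. -/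
theorem exists_not_commute (hL : ¬ IsMulCommutative L) {H : Subgroup L} (hH : Cfsg.IsStronglyEmbedded H)
    (P : Sylow 2 L) {U V : Subgroup L} (hU : U ≤ (P : Subgroup L)) (hV : V ≤ (P : Subgroup L))
    (hUn : ∀ n ∈ normalizer ((P : Subgroup L) : Set L), ∀ x ∈ U, n * x * n⁻¹ ∈ U)
    (hVn : ∀ n ∈ normalizer ((P : Subgroup L) : Set L), ∀ x ∈ V, n * x * n⁻¹ ∈ V)
    (hu : ∃ u ∈ U, u * u ≠ 1) (hv : ∃ v ∈ V, v * v ≠ 1) : ∃ u ∈ U, ∃ v ∈ V, u * v ≠ v * u := by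
  haveI : Fact (Nat.Prime 2) := ⟨Nat.prime_two⟩
  have htor : Invol.CentRank.Cyc.TorusData (P : Subgroup L) → ∃ u ∈ U, ∃ v ∈ V, u * v ≠ v * u := fun hd =>
    exists_not_commute_torus _ P.isPGroup' hd hU hV hUn hVn hu hv
  rcases (Gold.bender_of_se hL hH).1 with
    ⟨F, i, j, hc, h4, ⟨e⟩⟩ | ⟨F, i, j, q, hq, h4, hF, ⟨e⟩⟩ | ⟨F, i, j, m, hm, hF, ⟨e⟩⟩
  · haveI := hc
    obtain ⟨P', hd⟩ := Invol.CentRank.Cyc.torus_sl (F := F) h4
    obtain ⟨ψ, hψ⟩ := Invol.CentRank.exists_iso_sylow e.symm P' P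
    exact htor (hψ ▸ hd.map ψ)
  · obtain ⟨P', hd⟩ := Invol.CentRank.Cyc.torus_psu hF hq h4
    obtain ⟨ψ, hψ⟩ := Invol.CentRank.exists_iso_sylow e.symm P' P
    exact htor (hψ ▸ hd.map ψ)
  · have hS : Suz.SzField F m := ⟨hm, hF⟩
    obtain ⟨ψ, hψ⟩ := Invol.CentRank.exists_iso_sylow ((Suz.szEquiv hS).trans e.symm)
      ((Suz.isPGroup_unip hS).toSylow (Suz.not_two_dvd_index_unip hS)) P
    replace hψ : (Suz.unip hS).map ψ.toMonoidHom = (P : Subgroup L) := hψ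
    have hN : ∀ n ∈ normalizer (Suz.unip hS : Set ↥(Cfsg.Sz F m)),
        ψ n ∈ normalizer ((P : Subgroup L) : Set L) := fun n hn => by
      rw [← hψ]
      refine mem_normalizer_fintype ?_
      rintro _ ⟨x, hx, rfl⟩
      exact ⟨n * x * n⁻¹, (mem_normalizer_iff.1 hn x).1 hx, by simp⟩
    have hle : ∀ {Y : Subgroup L}, Y ≤ (P : Subgroup L) → Y.comap ψ.toMonoidHom ≤ Suz.unip hS := fun hY x hx => by
      obtain ⟨z, hz, e'⟩ := hψ.ge (hY hx)
      exact ψ.injective e' ▸ hz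
    have hne : ∀ {Y : Subgroup L}, (∃ y ∈ Y, y * y ≠ 1) → ∃ x ∈ Y.comap ψ.toMonoidHom, x * x ≠ 1 := by
      rintro Y ⟨y, hy, hy1⟩
      obtain ⟨x, rfl⟩ := ψ.surjective y
      exact ⟨x, hy, fun e' => hy1 (by rw [← map_mul, e', map_one])⟩
    obtain ⟨x, hx, y, hy, hxy⟩ := exists_not_commute_sz hS (hle hU) (hle hV)
      (fun n hn z hz => by
        show ψ (n * z * n⁻¹) ∈ U
        rw [map_mul, map_mul, map_inv]; exact hUn _ (hN n hn) _ hz)
      (fun n hn z hz => by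
        show ψ (n * z * n⁻¹) ∈ V
        rw [map_mul, map_mul, map_inv]; exact hVn _ (hN n hn) _ hz) (hne hu) (hne hv)
    exact ⟨ψ x, hx, ψ y, hy, fun e' => hxy (ψ.injective (by rwa [map_mul, map_mul]))⟩

end StronglyEmbedded

end Cfsg.Agent.Fus.ClosedProduct
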