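import Cfsg.Agent.Lib.Fus.Goldschmidt.Local
import Cfsg.Agent.Lib.Fus.ClosedProduct.Model

/-!
# Commuting strongly closed subgroups at a component

`K` is a component moved by the strongly closed elementary subgroup `Ab`.  A subgroup centralising `Ab` fixes
`K`; call it flat at `K` when the squares of its elements in `K` are central in `K`.  A flat strongly closed
subgroup acts on `K` as `Ab ∩ K` does, and one of two commuting strongly closed subgroups is flat.
-/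

set_option autoImplicit false
set_option linter.style.haveILetI false
set_option linter.unusedSectionVars false

namespace Cfsg.Agent.Fus.ClosedProduct

open Subgroup Cfsg.Agent.Grp Cfsg.Agent.Invol.StrongClosed.OneClass
open scoped commutatorElement

universe u

variable {X : Type u} [Group X] [Finite X]

/-- The squares of the elements of `R` in `K` centralise `K`. -/
def Flat (R K : Subgroup X) : Prop :=
  ∀ u ∈ R, u ∈ K → u * u ∈ centralizer (K : Set X)

variable {Ab : Subgroup X} (h : Gold.LocalHyp X Ab) {T : Sylow 2 X} (hT : Ab ≤ T)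
include h hT

omit h hT in
/-- A conjugate component is reached by an element carrying the part in `T` into `T`. -/
theorem exists_conj_sylow {K : Subgroup X} (hK : Cfsg.IsComponent K) (g : X) :
    ∃ g' : X, K.map (MulAut.conj g').toMonoidHom = K.map (MulAut.conj g).toMonoidHom ∧
      ∀ u ∈ (T : Subgroup X), u ∈ K → g' * u * g'⁻¹ ∈ (T : Subgroup X) := by
  haveI : Fact (Nat.Prime 2) := ⟨Nat.prime_two⟩
  set K' := K.map (MulAut.conj g).toMonoidHom
  have hK' : Cfsg.IsComponent K' := IsComponent.conj hK g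
  obtain ⟨P, hP⟩ := Gold.exists_sylow_component (T := T) hK'
  have hp : IsPGroup 2 ((((T : Subgroup X) ⊓ K).map (MulAut.conj g).toMonoidHom).subgroupOf K') :=
    ((T.isPGroup'.to_le inf_le_left).map _).comap_of_injective _ K'.subtype_injective
  obtain ⟨Q, hQ⟩ := hp.exists_le_sylow
  obtain ⟨k, hk⟩ := MulAction.exists_smul_eq ↥K' Q P
  refine ⟨(k : X) * g, ?_, fun u hu huK => ?_⟩
  · rw [show (MulAut.conj ((k : X) * g)).toMonoidHom =
      (MulAut.conj (k : X)).toMonoidHom.comp (MulAut.conj g).toMonoidHom from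
        MonoidHom.ext fun x => by simp [mul_assoc], ← map_map]
    exact conj_eq_iff.2 (Subgroup.le_normalizer k.2)
  · have hg : g * u * g⁻¹ ∈ K' := ⟨u, huK, rfl⟩
    have h1 : k * (⟨_, hg⟩ : ↥K') * k⁻¹ ∈ (P : Subgroup ↥K') := by
      rw [← hk, Sylow.coe_subgroup_smul, ← Grp.map_conj_eq_smul]
      exact mem_map_of_mem _ (hQ (mem_subgroupOf.2 ⟨u, ⟨hu, huK⟩, rfl⟩))
    rw [hP, mem_subgroupOf] at h1
    rw [show (k : X) * g * u * ((k : X) * g)⁻¹ = k * (g * u * g⁻¹) * (k : X)⁻¹ by group]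
    exact h1

omit h hT in
theorem flat_conj {K : Subgroup X} (hK : Cfsg.IsComponent K) {R : Subgroup X}
    (hR : Cfsg.IsStronglyClosed R (T : Subgroup X)) (g : X)
    (hf : Flat R (K.map (MulAut.conj g).toMonoidHom)) : Flat R K := by
  obtain ⟨g', e, hg'⟩ := exists_conj_sylow (T := T) hK g
  rw [← e] at hf
  intro u hu huK
  refine mem_centralizer_iff.2 fun k hk => ?_
  have h1 := mem_centralizer_iff.1 (hf _ (hR.2 u hu g' (hg' u (hR.1 hu) huK)) ⟨u, huK, rfl⟩)
    (g' * k * g'⁻¹) ⟨k, hk, rfl⟩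
  calc k * (u * u) = g'⁻¹ * (g' * k * g'⁻¹ * (g' * u * g'⁻¹ * (g' * u * g'⁻¹))) * g' := by group
    _ = g'⁻¹ * (g' * u * g'⁻¹ * (g' * u * g'⁻¹) * (g' * k * g'⁻¹)) * g' := by rw [h1]
    _ = _ := by group

theorem moved_conj {K : Subgroup X} (hK : Cfsg.IsComponent K) (hm : ¬ Ab ≤ centralizer (K : Set X)) (g : X) :
    ¬ Ab ≤ centralizer ((K.map (MulAut.conj g).toMonoidHom : Subgroup X) : Set X) := by
  obtain ⟨g', e, hg'⟩ := exists_conj_sylow (T := T) hK g
  rw [← e]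
  intro hle
  refine Gold.not_le_of_moved h hK hm fun u hu => mem_centralizer_iff.2 fun k hk => ?_
  have hA := (h.stronglyClosed hT).2 u hu.1 g' (hg' u (hT hu.1) hu.2)
  have h1 := mem_centralizer_iff.1 (hle hA) (g' * k * g'⁻¹) ⟨k, hk, rfl⟩
  calc k * u = g'⁻¹ * (g' * k * g'⁻¹ * (g' * u * g'⁻¹)) * g' := by group
    _ = g'⁻¹ * (g' * u * g'⁻¹ * (g' * k * g'⁻¹)) * g' := by rw [h1]
    _ = _ := by group

variable {K : Subgroup X} (hK : Cfsg.IsComponent K) (hm : ¬ Ab ≤ centralizer (K : Set X))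
include hK hm

theorem normalizes_of_commute {s : X} (hs : ∀ a ∈ Ab, s * a = a * s) : s ∈ normalizer (K : Set X) := by
  by_contra hsN
  obtain ⟨e, he, hec⟩ := SetLike.not_le_iff_exists.1 (Gold.not_le_of_moved h hK hm)
  refine hec (mem_centralizer_iff.2 fun k hk => ?_)
  have hne : K ≠ K.map (MulAut.conj s).toMonoidHom := fun e' => hsN (conj_eq_iff.1 e'.symm)
  exact (mem_centralizer_iff.1 (IsComponent.commute hK (IsComponent.conj hK s) hne hk) e
    ⟨e, he.2, show s * e * s⁻¹ = e by rw [hs e he.1, mul_inv_cancel_right]⟩).symm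

/-- One of two commuting strongly closed subgroups is flat. -/
theorem flat_or_flat {R₁ R₂ : Subgroup X} (h₁ : Cfsg.IsStronglyClosed R₁ (T : Subgroup X))
    (h₂ : Cfsg.IsStronglyClosed R₂ (T : Subgroup X)) (hc : ∀ a ∈ R₁, ∀ b ∈ R₂, a * b = b * a) :
    Flat R₁ K ∨ Flat R₂ K := by
  by_contra hno
  rw [not_or] at hno
  obtain ⟨P, hP, -, hel, -, hSE, -⟩ := Gold.exists_data h hK hT hm
  haveI := hK.2.2
  set π := QuotientGroup.mk' (center ↥K) with hπ
  have hmk : ∀ {R : Subgroup X}, Cfsg.IsStronglyClosed R (T : Subgroup X) → ¬ Flat R K →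
      (R.subgroupOf K).map π ≤ (P : Subgroup (↥K ⧸ center ↥K)) ∧
      (∀ n ∈ normalizer ((P : Subgroup (↥K ⧸ center ↥K)) : Set (↥K ⧸ center ↥K)),
        ∀ x ∈ (R.subgroupOf K).map π, n * x * n⁻¹ ∈ (R.subgroupOf K).map π) ∧
      ∃ x ∈ (R.subgroupOf K).map π, x * x ≠ 1 := by
    intro R hR hf
    have hle : (R.subgroupOf K).map π ≤ (P : Subgroup (↥K ⧸ center ↥K)) := by
      rintro _ ⟨u, hu, rfl⟩
      exact (hP u).2 (hR.1 hu)
    refine ⟨hle, fun n hn x hx => ?_, ?_⟩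
    · obtain ⟨k, rfl⟩ := QuotientGroup.mk'_surjective (center ↥K) n
      have hxP := (mem_normalizer_iff.1 hn x).1 (hle hx)
      obtain ⟨u, hu, rfl⟩ := hx
      rw [← map_inv, ← map_mul, ← map_mul] at hxP ⊢
      exact mem_map_of_mem π (mem_subgroupOf.2 (hR.2 _ (mem_subgroupOf.1 hu) k ((hP (k * u * k⁻¹)).1 hxP)))
    · simp only [Flat, not_forall] at hf
      obtain ⟨u, hu, huK, hu2⟩ := hf
      refine ⟨π ⟨u, huK⟩, mem_map_of_mem π (mem_subgroupOf.2 hu), fun e => hu2 ?_⟩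
      rw [← map_mul] at e
      exact (Gold.mk_eq_one hK).1 e
  obtain ⟨hU, hUn, hu⟩ := hmk h₁ hno.1
  obtain ⟨hV, hVn, hv⟩ := hmk h₂ hno.2
  rcases hSE with e | ⟨H, hH⟩
  · obtain ⟨u, huU, hu1⟩ := hu
    exact hu1 (by rw [← pow_two]; exact hel.2 u (e ▸ hU huU))
  · obtain ⟨_, ⟨a, ha, rfl⟩, _, ⟨b, hb, rfl⟩, hab⟩ :=
      exists_not_commute (Gold.not_comm_quotient hK) hH P hU hV hUn hVn hu hv
    refine hab ?_
    rw [← map_mul, ← map_mul]
    exact congrArg π (Subtype.ext (hc _ (mem_subgroupOf.1 ha) _ (mem_subgroupOf.1 hb)))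

/-- A flat strongly closed subgroup centralising `Ab` acts on `K` as `Ab ∩ K`. -/
theorem exists_mul_centralizes_of_flat {R : Subgroup X} (hR : Cfsg.IsStronglyClosed R (T : Subgroup X))
    (hRA : ∀ r ∈ R, ∀ a ∈ Ab, r * a = a * r) (hf : Flat R K) {s : X} (hs : s ∈ R) :
    ∃ e ∈ Ab ⊓ K, e * s ∈ centralizer (K : Set X) := by
  classical
  haveI : Fact (Nat.Prime 2) := ⟨Nat.prime_two⟩
  obtain ⟨P, hP, hcl, hel, -, hSE, hinv, hcent, -⟩ := Gold.exists_data h hK hT hm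
  haveI := hK.2.2
  have hnc := Gold.not_comm_quotient hK
  set π := QuotientGroup.mk' (center ↥K) with hπ
  set W := Gold.kbar Ab K with hWdef
  have hW : ∀ x, x ∈ W ↔ x ∈ (P : Subgroup (↥K ⧸ center ↥K)) ∧ x * x = 1 := fun x =>
    ⟨fun hx => ⟨hcl.1 hx, by rw [← pow_two]; exact hel.2 x hx⟩, fun hx => hinv x hx.1 hx.2⟩
  have hsN : ∀ {r : X}, r ∈ R → r ∈ normalizer (K : Set X) := fun hr =>
    normalizes_of_commute h hT hK hm (hRA _ hr)
  have hRK : ∀ k : ↥K, (k : X) ∈ R → π k ∈ W := fun k hk => (hW _).2 ⟨(hP k).2 (hR.1 hk), by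
    rw [← map_mul]; exact (Gold.mk_eq_one hK).2 (hf _ hk k.2)⟩
  -- the automorphism given by `s`
  have hcj : ∀ (r : X) (hr : r ∈ R) (k : ↥K), Gold.conjQ (hsN hr) (π k) =
      π ⟨r * k * r⁻¹, mem_conj_normalizer (hsN hr) k.2⟩ := fun _ _ _ => rfl
  set α : MulAut (↥K ⧸ center ↥K) := MonoidHom.toMulEquiv (Gold.conjQ (hsN hs)) (Gold.conjQ (hsN (inv_mem hs)))
    (MonoidHom.ext fun x => by
      obtain ⟨k, rfl⟩ := QuotientGroup.mk'_surjective (center ↥K) x
      rw [MonoidHom.comp_apply]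
      first
        | rw [hcj _ hs, hcj _ (inv_mem hs)]
        | rw [hcj _ (inv_mem hs), hcj _ hs]
      rw [MonoidHom.id_apply]
      exact congrArg π (Subtype.ext (by simp [mul_assoc])))
    (MonoidHom.ext fun x => by
      obtain ⟨k, rfl⟩ := QuotientGroup.mk'_surjective (center ↥K) x
      rw [MonoidHom.comp_apply]
      first
        | rw [hcj _ hs, hcj _ (inv_mem hs)]
        | rw [hcj _ (inv_mem hs), hcj _ hs]
      rw [MonoidHom.id_apply]
      exact congrArg π (Subtype.ext (by simp [mul_assoc]))) with hα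
  have hαmk : ∀ k : ↥K, α (π k) = π ⟨s * k * s⁻¹, mem_conj_normalizer (hsN hs) k.2⟩ := fun _ => rfl
  have hαW : ∀ w ∈ W, α w = w := by
    rintro _ ⟨e, he, rfl⟩
    rw [hαmk]
    exact congrArg π (Subtype.ext (show s * e * s⁻¹ = e by
      rw [hRA s hs _ (mem_subgroupOf.1 he).1, mul_inv_cancel_right]))
  obtain ⟨w, hw, hwα⟩ : ∃ w ∈ W, α = MulAut.conj w := by
    by_cases hPW : (P : Subgroup (↥K ⧸ center ↥K)) ≤ W
    · suffices hαp : ∃ i : ℕ, α ^ 2 ^ i = 1 by
        obtain ⟨p, hp, e⟩ := inner_of_abelian hnc (Gold.two_dvd_quotient h hK) P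
          (fun a ha b hb => Grp.elemAb_comm hel a (hPW ha) b (hPW hb)) α hαp fun t ht => hαW t (hPW ht)
        exact ⟨p, hPW hp, e⟩
      obtain ⟨i, hi⟩ := T.isPGroup' ⟨s, hR.1 hs⟩
      replace hi : s ^ 2 ^ i = 1 := congrArg Subtype.val hi
      have hpow : ∀ (n : ℕ) (k : ↥K), (α ^ n) (π k) =
          π ⟨s ^ n * k * (s ^ n)⁻¹, mem_conj_normalizer (pow_mem (hsN hs) n) k.2⟩ := by
        intro n
        induction n with
        | zero => intro k; exact congrArg π (Subtype.ext (by simp))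
        | succ n ih =>
          intro k
          rw [pow_succ', MulAut.mul_apply, ih, hαmk]
          exact congrArg π (Subtype.ext (by simp [pow_succ', mul_assoc]))
      refine ⟨i, MulEquiv.ext fun x => ?_⟩
      obtain ⟨k, rfl⟩ := QuotientGroup.mk'_surjective (center ↥K) x
      rw [hpow, MulAut.one_apply]
      exact congrArg π (Subtype.ext (by simp [hi]))
    · obtain ⟨H, hH⟩ := hSE.resolve_left fun e => hPW e.le
      refine inner_of_twist hnc hH P hW (SetLike.not_le_iff_exists.1 hPW) α hαW (fun t ht => ?_)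
        fun n _ hn => ?_
      · obtain ⟨k, rfl⟩ := QuotientGroup.mk'_surjective (center ↥K) t
        have hk := (hP k).1 ht
        rw [hαmk, ← map_inv, ← map_mul]
        refine hRK _ ?_
        show (k : X)⁻¹ * (s * k * s⁻¹) ∈ R
        rw [show (k : X)⁻¹ * (s * k * s⁻¹) = (k : X)⁻¹ * s * (k : X)⁻¹⁻¹ * s⁻¹ by group]
        exact R.mul_mem (hR.2 s hs _ (mul_mem (mul_mem (inv_mem hk) (hR.1 hs))
          (inv_mem (inv_mem hk)))) (R.inv_mem hs)
      · obtain ⟨k, rfl⟩ := QuotientGroup.mk'_surjective (center ↥K) n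
        rw [hαmk, ← map_inv, ← map_mul] at hn ⊢
        refine hRK _ ?_
        have hk : (k : X)⁻¹ * (s * k * s⁻¹) ∈ (T : Subgroup X) := (hP _).1 hn
        show (k : X)⁻¹ * (s * k * s⁻¹) ∈ R
        rw [show (k : X)⁻¹ * (s * k * s⁻¹) = (k : X)⁻¹ * s * (k : X)⁻¹⁻¹ * s⁻¹ by group] at hk ⊢
        refine R.mul_mem (hR.2 s hs _ ?_) (R.inv_mem hs)
        simpa using mul_mem hk (hR.1 hs)
  obtain ⟨e, he, rfl⟩ := hw
  have heA := (mem_subgroupOf.1 he).1
  refine ⟨e, mem_subgroupOf.1 he, ?_⟩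
  -- `e * s` acts trivially modulo the centre
  let B : Subgroup X :=
    { carrier := {x | x ∈ normalizer (K : Set X) ∧ ∀ k ∈ K, k⁻¹ * (x * k * x⁻¹) ∈ centralizer (K : Set X)}
      one_mem' := ⟨one_mem _, fun k _ => by simp⟩
      mul_mem' := fun {x y} hx hy => ⟨mul_mem hx.1 hy.1, fun k hk => by
        have hk' : y * k * y⁻¹ ∈ K := mem_conj_normalizer hy.1 hk
        rw [show k⁻¹ * (x * y * k * (x * y)⁻¹) =
          (k⁻¹ * (y * k * y⁻¹)) * ((y * k * y⁻¹)⁻¹ * (x * (y * k * y⁻¹) * x⁻¹)) by group]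
        exact mul_mem (hy.2 k hk) (hx.2 _ hk')⟩
      inv_mem' := fun {x} hx => ⟨inv_mem hx.1, fun k hk => by
        have h1 := inv_mem (hx.2 _ (mem_conj_normalizer' hx.1 hk))
        rwa [show ((x⁻¹ * k * x)⁻¹ * (x * (x⁻¹ * k * x) * x⁻¹))⁻¹ = k⁻¹ * (x⁻¹ * k * x⁻¹⁻¹) by group]
          at h1⟩ }
  have hesB : (e : X) * s ∈ B := by
    refine ⟨mul_mem (Subgroup.le_normalizer e.2) (hsN hs), fun k hk => ?_⟩
    have h1 : π ⟨s * k * s⁻¹, mem_conj_normalizer (hsN hs) hk⟩ = π (e * ⟨k, hk⟩ * e⁻¹) := by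
      rw [← hαmk ⟨k, hk⟩, hwα, MulAut.conj_apply, ← map_inv, ← map_mul, ← map_mul]
    have h2 : π ⟨k, hk⟩ = π (e * ⟨s * k * s⁻¹, mem_conj_normalizer (hsN hs) hk⟩ * e⁻¹) := by
      rw [map_mul, map_mul, h1, ← map_mul, ← map_mul]
      refine congrArg π (Subtype.ext ?_)
      show k = (e : X) * ((e : X) * k * (e : X)⁻¹) * (e : X)⁻¹
      rw [show (e : X) * ((e : X) * k * (e : X)⁻¹) * (e : X)⁻¹ = (e : X) * e * k * ((e : X) * e)⁻¹ by group,
        h.sq heA]
      group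
    have h3 := (Gold.mk_eq_mk hK).1 h2
    change k⁻¹ * ((e : X) * (s * k * s⁻¹) * (e : X)⁻¹) ∈ centralizer (K : Set X) at h3
    rwa [show k⁻¹ * ((e : X) * s * k * ((e : X) * s)⁻¹) = k⁻¹ * ((e : X) * (s * k * s⁻¹) * (e : X)⁻¹) by group]
  refine le_centralizer_iff.1 (Cfsg.Agent.Invol.StrongClosed.OneClass.le_centralizer_of_perfect (B := B)
    (IsComponent.perfect hK) ?_) hesB
  rw [commutator_eq_bot_iff_le_centralizer, commutator_le]
  intro k hk x hx
  have h4 := hx.2 k⁻¹ (K.inv_mem hk)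
  rw [commutatorElement_def]
  rwa [show k⁻¹⁻¹ * (x * k⁻¹ * x⁻¹) = k * x * k⁻¹ * x⁻¹ by group] at h4

end Cfsg.Agent.Fus.ClosedProduct
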