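import Cfsg.Agent.Lib.Fus.ClosedPair.Main
import Cfsg.Agent.Lib.Invol.StronglyClosedDisjoint
import Cfsg.Agent.S1250

/-!
# Commuting strongly closed subgroups which meet trivially

Their normal closures commute modulo the odd core.  Commuting closed sets of involutions give this for the
involutions.  A part of one of them inside `O₂(G)` is normal and is removed by induction: the commutator with
a fixed element is then a homomorphism into a central subgroup which kills a generating set.  When there is no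
such part each meets the normal subgroups it has to centralise trivially.
-/

set_option autoImplicit false
set_option linter.style.haveILetI false
set_option linter.unusedSectionVars false

namespace Cfsg.Agent.Fus.ClosedProduct

open Subgroup
open scoped commutatorElement

universe u

variable {G : Type u} [Group G]

/-- The normal closures of two sets of generators commute as soon as the conjugates do. -/
theorem commutator_normalClosure_eq_bot {A B : Set G}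
    (h : ∀ a ∈ A, ∀ b ∈ B, ∀ g : G, a * (g * b * g⁻¹) = g * b * g⁻¹ * a) :
    ⁅normalClosure A, normalClosure B⁆ = ⊥ := by
  rw [commutator_eq_bot_iff_le_centralizer]
  refine normalClosure_le_normal fun a ha => mem_centralizer_iff.2 ?_
  intro c hc
  refine (mem_centralizer_singleton_iff.1 ((show normalClosure B ≤ centralizer ({a} : Set G) from
    (closure_le _).2 ?_) hc)).trans rfl
  intro w hw
  obtain ⟨b, hb, hc⟩ := Group.mem_conjugatesOfSet_iff.1 hw
  obtain ⟨g, rfl⟩ := _root_.isConj_iff.1 hc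
  exact mem_centralizer_singleton_iff.2 (h a ha b hb g).symm

variable [Finite G]

theorem move (P : Sylow 2 G) {T : Subgroup G} (hT : IsPGroup 2 T) :
    ∃ g : G, ∀ t ∈ T, g * t * g⁻¹ ∈ (P : Subgroup G) := by
  haveI : Fact (Nat.Prime 2) := ⟨Nat.prime_two⟩
  obtain ⟨S, hS⟩ := hT.exists_le_sylow
  obtain ⟨g, hg⟩ := MulAction.exists_smul_eq G S P
  refine ⟨g, fun t ht => ?_⟩
  rw [← hg, Sylow.coe_subgroup_smul, ← Grp.map_conj_eq_smul]
  exact ⟨t, hS ht, rfl⟩

/-- The odd part of a central extension of an odd group by a 2-group is normal. -/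
theorem le_two_of_odd_quotient (hO : Cfsg.pPrimeCore 2 G = ⊥) {E Z : Subgroup G} [E.Normal]
    (hZ : IsPGroup 2 Z) (hZE : Z ≤ E) (hc : ∀ z ∈ Z, ∀ e ∈ E, z * e = e * z) (hodd : Odd (Z.relIndex E)) :
    E ≤ Z := by
  haveI : Fact (Nat.Prime 2) := ⟨Nat.prime_two⟩
  haveI hn : (Z.subgroupOf E).Normal := ⟨fun z hz e => by
    rw [show e * z = z * e from Subtype.ext (hc _ hz _ e.2).symm, mul_inv_cancel_right]; exact hz⟩
  have hcop : (Nat.card (Z.subgroupOf E)).Coprime (Z.subgroupOf E).index := by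
    obtain ⟨k, hk⟩ := IsPGroup.iff_card.1 hZ
    rw [Nat.card_congr (Subgroup.subgroupOfEquivOfLe hZE).toEquiv, hk]
    exact Nat.Coprime.pow_left _ (Nat.coprime_two_left.2 hodd)
  obtain ⟨C, hC⟩ := exists_right_complement'_of_coprime hcop
  have hCodd : Odd (Nat.card C) := by rw [← hC.symm.index_eq_card]; exact hodd
  have hmem : ∀ v : ↥E, Odd (orderOf v) → v ∈ C := by
    intro v hv
    obtain ⟨⟨⟨b, hb⟩, ⟨c, hc'⟩⟩, hbc⟩ := hC.2 v
    simp only at hbc
    have hcomm : Commute b c := Subtype.ext (hc _ hb _ c.2)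
    obtain ⟨k, hk⟩ := (hZ.of_equiv (Subgroup.subgroupOfEquivOfLe hZE).symm) ⟨b, hb⟩
    have hn : b ^ (orderOf v * Nat.card C) = 1 := by
      have h1 : (b * c) ^ (orderOf v * Nat.card C) = 1 := by rw [hbc, pow_mul, pow_orderOf_eq_one, one_pow]
      rw [hcomm.mul_pow] at h1
      have hcn : c ^ Nat.card C = 1 := congrArg Subtype.val (pow_card_eq_one' (x := (⟨c, hc'⟩ : C)))
      rwa [mul_comm (orderOf v) (Nat.card C), pow_mul c, hcn, one_pow, mul_one, mul_comm] at h1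
    have hb1 : b = 1 := ClosedPair.eq_one_of_odd_two ((hv.mul hCodd).of_dvd_nat (orderOf_dvd_of_pow_eq_one hn))
      (congrArg Subtype.val hk)
    rw [← hbc, hb1, one_mul]
    exact hc'
  have hCn : (C.map E.subtype).Normal := ⟨fun v hv g => by
    obtain ⟨c, hc', rfl⟩ := hv
    have hm : g * (c : G) * g⁻¹ ∈ E := (inferInstance : E.Normal).conj_mem _ c.2 g
    refine ⟨⟨_, hm⟩, hmem _ ?_, rfl⟩
    rw [Subgroup.orderOf_mk, Invol.orderOf_conj_eq, Subgroup.orderOf_coe]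
    exact hCodd.of_dvd_nat (Subgroup.orderOf_dvd_natCard _ hc')⟩
  have hbot : C.map E.subtype ≤ ⊥ := hO ▸ Grp.le_pPrimeCore hCn (Nat.coprime_two_right.2
    (by rwa [Subgroup.card_map_of_injective E.subtype_injective]))
  intro e he
  obtain ⟨⟨⟨b, hb⟩, ⟨c, hc'⟩⟩, hbc⟩ := hC.2 ⟨e, he⟩
  have : (c : G) = 1 := mem_bot.1 (hbot ⟨c, hc', rfl⟩)
  rw [show e = (b : G) * c from (congrArg Subtype.val hbc).symm, this, mul_one]
  exact hb

/-- An abelian normal subgroup lies in `O₂` when the odd core is trivial. -/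
theorem abelian_le_pCore (hO : Cfsg.pPrimeCore 2 G = ⊥) {Z : Subgroup G} [Z.Normal]
    (hc : ∀ a ∈ Z, ∀ b ∈ Z, a * b = b * a) : Z ≤ Cfsg.pCore 2 G := by
  let A : Subgroup G :=
    { carrier := {v | v ∈ Z ∧ Odd (orderOf v)}
      one_mem' := ⟨one_mem _, by simp⟩
      mul_mem' := fun {a b} ha hb => ⟨mul_mem ha.1 hb.1,
        Odd.of_dvd_nat (ha.2.mul hb.2) (Commute.orderOf_mul_dvd_mul_orderOf (hc a ha.1 b hb.1))⟩
      inv_mem' := fun {a} ha => ⟨inv_mem ha.1, by rw [orderOf_inv]; exact ha.2⟩ }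
  have hn : A.Normal := ⟨fun v hv g => ⟨(inferInstance : Z.Normal).conj_mem v hv.1 g,
    by rw [Invol.orderOf_conj_eq]; exact hv.2⟩⟩
  have hA : A ≤ ⊥ := hO ▸ Grp.le_pPrimeCore hn
    (Nat.coprime_two_right.2 (ClosedPair.odd_card_of_forall fun a ha => ha.2))
  refine Grp.le_pCore inferInstance fun v => ?_
  obtain ⟨a, b, hb, hab⟩ := Nat.exists_eq_two_pow_mul_odd (orderOf_pos (v : G)).ne'
  refine ⟨a, Subtype.ext (mem_bot.1 (hA ⟨pow_mem v.2 _, ?_⟩))⟩
  show Odd (orderOf ((v : G) ^ 2 ^ a))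
  rw [orderOf_pow_of_dvd (by positivity) (hab ▸ dvd_mul_right _ _), hab, Nat.mul_div_cancel_left _ (by positivity)]
  exact hb

/-- The odd core of a normal subgroup is trivial when that of the group is. -/
theorem core_normal (hO : Cfsg.pPrimeCore 2 G = ⊥) (N : Subgroup G) [N.Normal] :
    Cfsg.pPrimeCore 2 ↥N = ⊥ := by
  haveI : (Cfsg.pPrimeCore 2 ↥N).Normal := Grp.pPrimeCore_isNormal
  haveI : (Cfsg.pPrimeCore 2 ↥N).Characteristic := by
    refine Subgroup.characteristic_iff_map_le.2 fun φ => Grp.le_pPrimeCore ?_ ?_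
    · exact Subgroup.Normal.map Grp.pPrimeCore_isNormal _ φ.surjective
    · rw [Subgroup.card_map_of_injective φ.injective]; exact Grp.pPrimeCore_coprime
  have h : ((Cfsg.pPrimeCore 2 ↥N).map N.subtype) ≤ ⊥ := hO ▸ Grp.le_pPrimeCore inferInstance (by
    rw [Subgroup.card_map_of_injective N.subtype_injective]; exact Grp.pPrimeCore_coprime)
  rw [le_bot_iff, Subgroup.map_eq_bot_iff_of_injective _ N.subtype_injective] at h
  exact h

/-- Conjugates in a normal subgroup: Frattini. -/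
theorem exists_conj_in {P : Sylow 2 G} {R : Subgroup G} (hR : Cfsg.IsStronglyClosed R (P : Subgroup G))
    {N : Subgroup G} [N.Normal] (hRN : R ≤ N) {b : G} (hb : b ∈ R) (g : G) :
    ∃ n ∈ N, ∃ b' ∈ R, g * b * g⁻¹ = n * b' * n⁻¹ := by
  haveI : Fact (Nat.Prime 2) := ⟨Nat.prime_two⟩
  have hp : IsPGroup 2 ↥((P : Subgroup G).subgroupOf N) := P.isPGroup'.comap_subtype
  let Q : Sylow 2 ↥N := hp.toSylow (Grp.sylow_inf_normal_relIndex P N)
  have hg := Sylow.normalizer_sup_eq_top Q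
  have hmap : (Q : Subgroup ↥N).map N.subtype = (P : Subgroup G) ⊓ N := by
    show ((P : Subgroup G).subgroupOf N).map N.subtype = _
    rw [Subgroup.subgroupOf_map_subtype]
  obtain ⟨n, hn, m, hm, rfl⟩ := Subgroup.mem_sup_of_normal_left.1
    (show g ∈ N ⊔ normalizer (((Q : Subgroup ↥N).map N.subtype : Subgroup G) : Set G) by
      rw [sup_comm, hg]; exact mem_top g)
  rw [hmap] at hm
  refine ⟨n, hn, m * b * m⁻¹, hR.2 b hb m ((mem_normalizer_iff.1 hm b).1 ⟨hR.1 hb, hRN hb⟩).1, by group⟩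

/-- The involutions of the two subgroups and their conjugates commute modulo the odd core. -/
theorem invol_commute {P : Sylow 2 G} {R₁ R₂ : Subgroup G} (h₁ : Cfsg.IsStronglyClosed R₁ (P : Subgroup G))
    (h₂ : Cfsg.IsStronglyClosed R₂ (P : Subgroup G)) (hc : ∀ a ∈ R₁, ∀ b ∈ R₂, a * b = b * a)
    (hd : R₁ ⊓ R₂ = ⊥) {x y : G} (hx : x ∈ R₁) (hx2 : orderOf x = 2) (hy : y ∈ R₂) (hy2 : orderOf y = 2)
    (g : G) : x * (g * y * g⁻¹) * x * (g * y * g⁻¹) ∈ Cfsg.pPrimeCore 2 G := by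
  haveI : Fact (Nat.Prime 2) := ⟨Nat.prime_two⟩
  let K : Set G := {a | a ≠ 1 ∧ ∃ g : G, g * a * g⁻¹ ∈ R₁}
  let Y : Set G := {w | orderOf w = 2 ∧ ∃ g : G, g * w * g⁻¹ ∈ R₂}
  have toR : ∀ {R : Subgroup G}, Cfsg.IsStronglyClosed R (P : Subgroup G) → ∀ {a : G},
      (∃ g : G, g * a * g⁻¹ ∈ R) → ∀ {g : G}, g * a * g⁻¹ ∈ (P : Subgroup G) → g * a * g⁻¹ ∈ R := by
    rintro R hR a ⟨h, hh⟩ g hg
    have := hR.2 _ hh (g * h⁻¹)
    rw [show g * h⁻¹ * (h * a * h⁻¹) * (g * h⁻¹)⁻¹ = g * a * g⁻¹ by group] at this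
    exact this hg
  have hexc : ∀ {R : Subgroup G} {a : G}, (∃ g : G, g * a * g⁻¹ ∈ R) → ∀ g : G,
      ∃ h : G, h * (g * a * g⁻¹) * h⁻¹ ∈ R := by
    rintro R a ⟨h, hh⟩ g
    exact ⟨h * g⁻¹, by rwa [show h * g⁻¹ * (g * a * g⁻¹) * (h * g⁻¹)⁻¹ = h * a * h⁻¹ by group]⟩
  have hdisj : ∀ a ∈ K, a ∉ Y := by
    rintro a ⟨ha, g, hg⟩ ⟨-, h⟩
    have hb := toR h₂ h (g := g) (h₁.1 hg)
    have h1 : g * a * g⁻¹ ∈ R₁ ⊓ R₂ := ⟨hg, hb⟩
    rw [hd, mem_bot, conj_eq_one_iff] at h1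
    exact ha h1
  have H : ClosedPair.PairSets G K Y :=
    { inv₁ := fun a ha => ha.2
      inv₂ := fun w hw => hw.1
      conj₁ := fun g a ha => ⟨⟨fun e => ha.1.1 (conj_eq_one_iff.1 e), hexc ha.1.2 g⟩,
        (Invol.orderOf_conj_eq g a).trans ha.2⟩
      conj₂ := fun g w hw => ⟨(Invol.orderOf_conj_eq g w).trans hw.1, hexc hw.2 g⟩
      disj := fun a ha => hdisj a ha.1
      comm := fun T hT a ha haT w hw hwT => by
        obtain ⟨g, hg⟩ := move P hT
        exact (commute_iff_eq _ _).2 ((MulAut.conj g).injective (by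
          simpa [mul_assoc] using hc _ (toR h₁ ha.1.2 (hg a haT)) _ (toR h₂ hw.2 (hg w hwT))))
      conjK := fun g a ha => ⟨fun e => ha.1 (conj_eq_one_iff.1 e), hexc ha.2 g⟩
      two := fun a ⟨ha, g, hg⟩ => ⟨ha, by
        obtain ⟨n, hn⟩ := IsPGroup.iff_orderOf.1 P.isPGroup' ⟨_, h₁.1 hg⟩
        rw [Subgroup.orderOf_mk, Invol.orderOf_conj_eq] at hn
        exact ⟨n, hn⟩⟩
      mulK := fun T hT a ha haT b hb hbT hab => by
        obtain ⟨g, hg⟩ := move P hT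
        refine ⟨hab, g, ?_⟩
        have := R₁.mul_mem (toR h₁ ha.2 (hg a haT)) (toR h₁ hb.2 (hg b hbT))
        rwa [show g * a * g⁻¹ * (g * b * g⁻¹) = g * (a * b) * g⁻¹ by group] at this
      disjK := hdisj
      mul₂ := fun w hw w' hw' hne hcm => by
        have hw2 : w * w = 1 := Invol.mul_self_of_orderOf_two hw.1
        have hw2' : w' * w' = 1 := Invol.mul_self_of_orderOf_two hw'.1
        have hord : orderOf (w * w') = 2 := orderOf_eq_prime (by
          rw [hcm.mul_pow, pow_two, pow_two, hw2, hw2', one_mul]) fun e => hne (by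
            rw [← mul_one w, ← hw2', ← mul_assoc, e, one_mul])
        refine ⟨hord, ?_⟩
        have hp : IsPGroup 2 (closure ({w, w'} : Set G)) :=
          Invol.isPGroup_closure_pair (a := 1) hw.1 hw'.1 (by rw [pow_one]; exact hord)
        obtain ⟨g, hg⟩ := move P hp
        refine ⟨g, ?_⟩
        have := R₂.mul_mem (toR h₂ hw.2 (hg w (subset_closure (Set.mem_insert _ _))))
          (toR h₂ hw'.2 (hg w' (subset_closure (Set.mem_insert_of_mem _ rfl))))
        rwa [show g * w * g⁻¹ * (g * w' * g⁻¹) = g * (w * w') * g⁻¹ by group] at this }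
  exact H.mem_core (show x ∈ K from ⟨fun e => by rw [e, orderOf_one] at hx2; omega, 1, by simpa using hx⟩) hx2
    (show g * y * g⁻¹ ∈ Y from ⟨(Invol.orderOf_conj_eq g y).trans hy2, g⁻¹, by simpa [mul_assoc] using hy⟩)

/-- A subgroup without involutions in `O₂` meets trivially a normal subgroup centralising its involutions. -/
theorem inf_eq_bot (hO : Cfsg.pPrimeCore 2 G = ⊥) {R : Subgroup G} (hR2 : IsPGroup 2 R)
    (hR : R ⊓ Cfsg.pCore 2 G = ⊥) (N : Subgroup G) [N.Normal]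
    (h : ∀ u ∈ R, orderOf u = 2 → u ∈ centralizer (N : Set G)) : R ⊓ N = ⊥ := by
  haveI : Fact (Nat.Prime 2) := ⟨Nat.prime_two⟩
  by_contra hne
  have h2 : 2 ∣ Nat.card ↥(R ⊓ N) := by
    obtain ⟨i, hi⟩ := IsPGroup.iff_card.1 (hR2.to_le (inf_le_left : R ⊓ N ≤ R))
    haveI := (Subgroup.nontrivial_iff_ne_bot _).2 hne
    have h1 : 1 < Nat.card ↥(R ⊓ N) := Finite.one_lt_card
    rcases i with _ | i
    · rw [hi, pow_zero] at h1; omega
    · exact hi ▸ dvd_pow_self 2 (Nat.succ_ne_zero i)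
  obtain ⟨u, hu, hu2⟩ := Invol.exists_orderOf_two_mem (even_iff_two_dvd.2 h2)
  have hz : N ⊓ centralizer (N : Set G) ≤ Cfsg.pCore 2 G := abelian_le_pCore hO
    fun a ha b hb => (mem_centralizer_iff.1 ha.2 b hb.1).symm
  have : u ∈ R ⊓ Cfsg.pCore 2 G := ⟨hu.1, hz ⟨hu.2, h u hu.1 hu2⟩⟩
  rw [hR, mem_bot] at this
  rw [this, orderOf_one] at hu2
  omega

theorem step_core {R₁ R₂ : Subgroup G} {P : Sylow 2 G} (hO : Cfsg.pPrimeCore 2 G = ⊥)
    (h₁ : Cfsg.IsStronglyClosed R₁ (P : Subgroup G)) (h₂ : Cfsg.IsStronglyClosed R₂ (P : Subgroup G))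
    (hc : ∀ a ∈ R₁, ∀ b ∈ R₂, a * b = b * a) (hd : R₁ ⊓ R₂ = ⊥) (hne : R₁ ⊓ Cfsg.pCore 2 G ≠ ⊥)
    (ih : ∀ (H : Type u) [Group H] [Finite H], Nat.card H < Nat.card G → ∀ (P : Sylow 2 H) (A B : Subgroup H),
      Cfsg.IsStronglyClosed A (P : Subgroup H) → Cfsg.IsStronglyClosed B (P : Subgroup H) →
      (∀ a ∈ A, ∀ b ∈ B, a * b = b * a) → A ⊓ B = ⊥ →
      ∀ a ∈ A, ∀ b ∈ B, ∀ g : H, ⁅a, g * b * g⁻¹⁆ ∈ Cfsg.pPrimeCore 2 H) :
    ∀ a ∈ R₁, ∀ b ∈ R₂, ∀ g : G, a * (g * b * g⁻¹) = g * b * g⁻¹ * a := by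
  haveI : Fact (Nat.Prime 2) := ⟨Nat.prime_two⟩
  haveI hOn : (Cfsg.pCore 2 G).Normal := Grp.pCore_isNormal
  set Q := R₁ ⊓ Cfsg.pCore 2 G with hQ
  haveI hQn : Q.Normal := ⟨fun x hx g => by
    have h := hOn.conj_mem x hx.2 g
    exact ⟨h₁.2 x hx.1 g (Grp.pCore_le_sylow P h), h⟩⟩
  set π := QuotientGroup.mk' Q with hπ
  have hπs : Function.Surjective π := QuotientGroup.mk'_surjective Q
  have hlt : Nat.card (G ⧸ Q) < Nat.card G := by
    refine lt_of_le_of_ne (Nat.le_of_dvd Nat.card_pos (card_quotient_dvd_card _)) fun e => hne ?_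
    have := card_eq_card_quotient_mul_card_subgroup Q
    rw [e] at this
    exact eq_bot_of_card_eq _ (mul_eq_left₀ Nat.card_pos.ne' |>.1 this.symm)
  have hd' : R₁.map π ⊓ R₂.map π = ⊥ := by
    rw [eq_bot_iff_forall]
    rintro _ ⟨⟨x, hx, rfl⟩, ⟨y, hy, e⟩⟩
    have hxy : x⁻¹ * y ∈ Q := QuotientGroup.eq.1 e.symm
    have hy1 : y ∈ R₁ ⊓ R₂ := ⟨by simpa using R₁.mul_mem hx hxy.1, hy⟩
    rw [hd, mem_bot] at hy1
    rw [← e, hy1, map_one]
  have hcl : ∀ {R : Subgroup G}, Cfsg.IsStronglyClosed R (P : Subgroup G) →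
      Cfsg.IsStronglyClosed (R.map π) ((P.mapSurjective hπs : Sylow 2 (G ⧸ Q)) : Subgroup (G ⧸ Q)) :=
    fun hR => by rw [Sylow.coe_mapSurjective]; exact S1250.result P _ hR Q
  have key := ih (G ⧸ Q) hlt (P.mapSurjective hπs) (R₁.map π) (R₂.map π) (hcl h₁) (hcl h₂)
    (by rintro _ ⟨a, ha, rfl⟩ _ ⟨b, hb, rfl⟩; rw [← map_mul, ← map_mul, hc a ha b hb]) hd'
  set N₂ := normalClosure (R₂ : Set G) with hN₂
  set C := centralizer (Q : Set G) with hC
  have hNC : N₂ ≤ C := normalClosure_le_normal fun b hb => mem_centralizer_iff.2 fun q hq => hc q hq.1 b hb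
  haveI hQE : (Cfsg.pPrimeCore 2 (G ⧸ Q)).Normal := Grp.pPrimeCore_isNormal
  set E := (Cfsg.pPrimeCore 2 (G ⧸ Q)).comap π ⊓ C with hE
  have hEQ : E ≤ Q := by
    have hQ2 : IsPGroup 2 ↥(Q ⊓ E) := P.isPGroup'.to_le (inf_le_left.trans (inf_le_left.trans h₁.1))
    refine (le_two_of_odd_quotient hO hQ2 inf_le_right
      (fun z hz e he => mem_centralizer_iff.1 he.2 z hz.1) ?_).trans inf_le_left
    have h1 : (Q ⊓ E).relIndex E ∣ Nat.card ↥(Cfsg.pPrimeCore 2 (G ⧸ Q)) := by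
      have h3 := π.ker.inf_relIndex_right E
      have h4 := relIndex_ker (f := π) (K := E)
      rw [QuotientGroup.ker_mk'] at h3 h4
      rw [h3, h4]
      exact card_dvd_of_le (by rintro _ ⟨e, he, rfl⟩; exact he.1)
    exact Invol.odd_oddCore.of_dvd_nat h1
  intro a ha b hb g
  have hmem : ∀ n ∈ N₂, ⁅a, n⁆ ∈ Q := by
    intro n hn
    induction hn using closure_induction with
    | mem w hw =>
      obtain ⟨c, hc', hcw⟩ := Group.mem_conjugatesOfSet_iff.1 hw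
      obtain ⟨h, rfl⟩ := _root_.isConj_iff.1 hcw
      refine hEQ ⟨?_, ?_⟩
      · show π ⁅a, h * c * h⁻¹⁆ ∈ Cfsg.pPrimeCore 2 (G ⧸ Q)
        rw [map_commutatorElement, map_mul, map_mul, map_inv]
        exact key _ ⟨a, ha, rfl⟩ _ ⟨c, hc', rfl⟩ _
      · have hN : N₂.Normal := normalClosure_normal
        have hcm : h * c * h⁻¹ ∈ N₂ := hN.conj_mem _ (subset_normalClosure hc') h
        rw [commutatorElement_def]
        exact hNC (N₂.mul_mem (hN.conj_mem _ hcm a) (N₂.inv_mem hcm))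
    | one => rw [commutatorElement_one_right]; exact one_mem _
    | mul x y _ _ hx hy =>
      rw [show ⁅a, x * y⁆ = ⁅a, x⁆ * (x * ⁅a, y⁆ * x⁻¹) by simp [commutatorElement_def, mul_assoc]]
      exact mul_mem hx (hQn.conj_mem _ hy x)
    | inv x _ hx =>
      rw [show ⁅a, x⁻¹⁆ = x⁻¹ * ⁅a, x⁆⁻¹ * x⁻¹⁻¹ by simp [commutatorElement_def, mul_assoc]]
      exact hQn.conj_mem _ (inv_mem hx) x⁻¹
  have hfix : ∀ n ∈ N₂, ∀ w ∈ N₂, n * ⁅a, w⁆ = ⁅a, w⁆ * n := fun n hn w hw =>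
    (mem_centralizer_iff.1 (hNC hn) _ (hmem w hw)).symm
  haveI : N₂.Normal := normalClosure_normal
  obtain ⟨n, hn, b', hb', e⟩ := exists_conj_in h₂ (N := N₂) subset_normalClosure hb g
  have hb'N : b' ∈ N₂ := subset_normalClosure hb'
  rw [← commutatorElement_eq_one_iff_mul_comm, e]
  have e1 : ∀ x ∈ N₂, ∀ y ∈ N₂, ⁅a, x * y⁆ = ⁅a, x⁆ * ⁅a, y⁆ := fun x hx y hy => by
    rw [show ⁅a, x * y⁆ = ⁅a, x⁆ * (x * ⁅a, y⁆ * x⁻¹) by simp [commutatorElement_def, mul_assoc],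
      hfix x hx y hy, mul_inv_cancel_right]
  have hb1 : ⁅a, b'⁆ = 1 := commutatorElement_eq_one_iff_mul_comm.2 (hc a ha b' hb')
  rw [e1 _ (mul_mem hn hb'N) _ (inv_mem hn), e1 _ hn _ hb'N, hb1, mul_one, ← e1 _ hn _ (inv_mem hn),
    mul_inv_cancel, commutatorElement_one_right]

/-- Commuting strongly closed subgroups meeting trivially. -/
theorem commute_aux : ∀ (n : ℕ) (G : Type u) [Group G] [Finite G], Nat.card G = n →
    ∀ (P : Sylow 2 G) (R₁ R₂ : Subgroup G), Cfsg.IsStronglyClosed R₁ (P : Subgroup G) →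
      Cfsg.IsStronglyClosed R₂ (P : Subgroup G) → (∀ a ∈ R₁, ∀ b ∈ R₂, a * b = b * a) → R₁ ⊓ R₂ = ⊥ →
      ∀ a ∈ R₁, ∀ b ∈ R₂, ∀ g : G, ⁅a, g * b * g⁻¹⁆ ∈ Cfsg.pPrimeCore 2 G := by
  intro n
  induction n using Nat.strong_induction_on with
  | _ n ih =>
  intro G _ _ hn P R₁ R₂ h₁ h₂ hc hd a ha b hb g
  haveI : Fact (Nat.Prime 2) := ⟨Nat.prime_two⟩
  haveI hON : (Cfsg.pPrimeCore 2 G).Normal := Grp.pPrimeCore_isNormal
  set O := Cfsg.pPrimeCore 2 G with hOdef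
  by_cases hO : O = ⊥
  swap
  · have hlt : Nat.card (G ⧸ O) < n := hn ▸ by
      refine lt_of_le_of_ne (Nat.le_of_dvd Nat.card_pos (card_quotient_dvd_card _)) fun e => hO ?_
      have := card_eq_card_quotient_mul_card_subgroup O
      rw [e] at this
      exact eq_bot_of_card_eq _ (mul_eq_left₀ Nat.card_pos.ne' |>.1 this.symm)
    set π := QuotientGroup.mk' O with hπ
    have hπs : Function.Surjective π := QuotientGroup.mk'_surjective O
    have hcl : ∀ {R : Subgroup G}, Cfsg.IsStronglyClosed R (P : Subgroup G) →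
        Cfsg.IsStronglyClosed (R.map π) ((P.mapSurjective hπs : Sylow 2 (G ⧸ O)) : Subgroup (G ⧸ O)) :=
      fun hR => by rw [Sylow.coe_mapSurjective]; exact S1250.result P _ hR O
    have hd' : R₁.map π ⊓ R₂.map π = ⊥ := by
      rw [eq_bot_iff_forall]
      rintro _ ⟨⟨x, hx, rfl⟩, ⟨y, hy, e⟩⟩
      have hxy : x⁻¹ * y ∈ O := QuotientGroup.eq.1 e.symm
      have h1 : x⁻¹ * y = 1 := by
        obtain ⟨i, hi⟩ := IsPGroup.iff_orderOf.1 P.isPGroup' ⟨_, mul_mem (inv_mem (h₁.1 hx)) (h₂.1 hy)⟩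
        rw [Subgroup.orderOf_mk] at hi
        exact ClosedPair.eq_one_of_odd_two (ClosedPair.odd_orderOf_of_mem Invol.odd_oddCore hxy)
          (k := i) (by rw [← hi, pow_orderOf_eq_one])
      rw [inv_mul_eq_one] at h1
      have hy1 : y ∈ R₁ ⊓ R₂ := ⟨h1 ▸ hx, hy⟩
      rw [hd, mem_bot] at hy1
      rw [← e, hy1, map_one]
    have key := ih _ hlt _ rfl (P.mapSurjective hπs) (R₁.map π) (R₂.map π) (hcl h₁) (hcl h₂)
      (by rintro _ ⟨a, ha, rfl⟩ _ ⟨b, hb, rfl⟩; rw [← map_mul, ← map_mul, hc a ha b hb]) hd'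
      (π a) ⟨a, ha, rfl⟩ (π b) ⟨b, hb, rfl⟩ (π g)
    rw [Grp.pPrimeCore_quotient_bot, mem_bot, ← map_inv, ← map_mul, ← map_mul, ← map_commutatorElement] at key
    exact (QuotientGroup.eq_one_iff _).1 key
  rw [hO, mem_bot, commutatorElement_eq_one_iff_mul_comm]
  by_cases hq₁ : R₁ ⊓ Cfsg.pCore 2 G = ⊥
  swap
  · exact step_core hO h₁ h₂ hc hd hq₁ (fun H _ _ hH => ih _ (hn ▸ hH) H rfl) a ha b hb g
  by_cases hq₂ : R₂ ⊓ Cfsg.pCore 2 G = ⊥
  swap
  · have h := step_core hO h₂ h₁ (fun x hx y hy => (hc y hy x hx).symm) (by rwa [inf_comm]) hq₂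
      (fun H _ _ hH => ih _ (hn ▸ hH) H rfl) b hb a ha g⁻¹
    apply (MulAut.conj g⁻¹).injective
    simpa [mul_assoc] using h.symm
  -- no part inside `O₂`
  set S₁ : Set G := {u | u ∈ R₁ ∧ orderOf u = 2} with hS₁
  set S₂ : Set G := {u | u ∈ R₂ ∧ orderOf u = 2} with hS₂
  set I₁ := normalClosure S₁ with hI₁
  set I₂ := normalClosure S₂ with hI₂
  haveI : I₁.Normal := normalClosure_normal
  haveI : I₂.Normal := normalClosure_normal
  have h11 : ⁅I₁, I₂⁆ = ⊥ := commutator_normalClosure_eq_bot fun x hx y hy k => by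
    have h := invol_commute h₁ h₂ hc hd hx.1 hx.2 hy.1 hy.2 k
    rw [show Cfsg.pPrimeCore 2 G = ⊥ from hO, mem_bot] at h
    have hx' := Invol.mul_self_of_orderOf_two hx.2
    have hy' := Invol.mul_self_of_orderOf_two ((Invol.orderOf_conj_eq k y).trans hy.2)
    generalize k * y * k⁻¹ = w at h hy' ⊢
    calc x * w = (x * w * x * w) * ((w⁻¹ * x⁻¹)) := by group
      _ = w * x := by rw [h, one_mul, inv_eq_of_mul_eq_one_right hx', inv_eq_of_mul_eq_one_right hy']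
  have hle₁ : R₁ ≤ centralizer (I₂ : Set G) :=
    Invol.le_centralizer_of_stronglyClosed P R₁ h₁ I₂ (by rw [normalizer_eq_top]; exact le_top)
      (core_normal hO I₂) (inf_eq_bot hO (P.isPGroup'.to_le h₁.1) hq₁ I₂ fun u hu hu2 =>
        commutator_eq_bot_iff_le_centralizer.1 h11 (subset_normalClosure ⟨hu, hu2⟩))
  have hle₂ : R₂ ≤ centralizer (I₁ : Set G) :=
    Invol.le_centralizer_of_stronglyClosed P R₂ h₂ I₁ (by rw [normalizer_eq_top]; exact le_top)
      (core_normal hO I₁) (inf_eq_bot hO (P.isPGroup'.to_le h₂.1) hq₂ I₁ fun u hu hu2 =>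
        le_centralizer_iff.1 (commutator_eq_bot_iff_le_centralizer.1 h11) (subset_normalClosure ⟨hu, hu2⟩))
  set N₂ := normalClosure (R₂ : Set G) with hN₂
  haveI : N₂.Normal := normalClosure_normal
  have hN₂C : N₂ ≤ centralizer (I₁ : Set G) := normalClosure_le_normal hle₂
  have hfin : R₁ ≤ centralizer (N₂ : Set G) :=
    Invol.le_centralizer_of_stronglyClosed P R₁ h₁ N₂ (by rw [normalizer_eq_top]; exact le_top)
      (core_normal hO N₂) (inf_eq_bot hO (P.isPGroup'.to_le h₁.1) hq₁ N₂ fun u hu hu2 =>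
        le_centralizer_iff.1 hN₂C (subset_normalClosure ⟨hu, hu2⟩))
  exact (mem_centralizer_iff.1 (hfin ha) _ ((inferInstance : N₂.Normal).conj_mem b (subset_normalClosure hb) g)).symm

/-- Commuting strongly closed subgroups meeting trivially have commuting normal closures when `O(G) = 1`. -/
theorem commutator_eq_bot (hO : Cfsg.pPrimeCore 2 G = ⊥) (P : Sylow 2 G) (R₁ R₂ : Subgroup G)
    (h₁ : Cfsg.IsStronglyClosed R₁ (P : Subgroup G)) (h₂ : Cfsg.IsStronglyClosed R₂ (P : Subgroup G))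
    (hc : ∀ a ∈ R₁, ∀ b ∈ R₂, a * b = b * a) (hd : R₁ ⊓ R₂ = ⊥) :
    ⁅normalClosure (R₁ : Set G), normalClosure (R₂ : Set G)⁆ = ⊥ :=
  commutator_normalClosure_eq_bot fun a ha b hb g => by
    have h := commute_aux _ G rfl P R₁ R₂ h₁ h₂ hc hd a ha b hb g
    rwa [hO, mem_bot, commutatorElement_eq_one_iff_mul_comm] at h

end Cfsg.Agent.Fus.ClosedProduct
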