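import Cfsg.Agent.Lib.Fus.ClosedProduct.Component
import Cfsg.Agent.Lib.Fus.ClosedProduct.Disjoint

/-!
# Normal closures of commuting strongly closed subgroups

`⁅⟨S₁^G⟩, ⟨S₂^G⟩⁆ ≤ ⟨(S₁ ∩ S₂)^G⟩ O(G)`, given the theorem on strongly closed abelian 2-subgroups for the simple
groups.  Modulo the product, over the components moved by the involutions of `S₁ ∩ S₂`, of their parts there,
`Sᵢ` becomes a strongly closed subgroup centralising the components where it is flat; these two meet trivially.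
-/

set_option autoImplicit false
set_option linter.style.haveILetI false
set_option linter.unusedSectionVars false

namespace Cfsg.Agent.Fus.ClosedProduct

open Subgroup Cfsg.Agent.Grp
open scoped commutatorElement

universe u

variable {G : Type u} [Group G]

/-- A family of subgroups kept by conjugation generates a normal subgroup. -/
theorem sSup_normal (𝒦 : Set (Subgroup G))
    (h : ∀ K ∈ 𝒦, ∀ g : G, K.map (MulAut.conj g).toMonoidHom ∈ 𝒦) : (sSup 𝒦).Normal := by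
  refine ⟨fun x hx g => ?_⟩
  have hle : (sSup 𝒦).map (MulAut.conj g).toMonoidHom ≤ sSup 𝒦 := by
    rw [map_le_iff_le_comap]
    refine sSup_le fun K hK => ?_
    rw [← map_le_iff_le_comap]
    exact le_sSup (h K hK g)
  exact hle ⟨x, hx, rfl⟩

variable [Finite G]

theorem conj_inv_map (K : Subgroup G) (g : G) :
    (K.map (MulAut.conj g).toMonoidHom).map (MulAut.conj g⁻¹).toMonoidHom = K := by
  rw [map_map]
  exact (congrArg (fun f => K.map f) (MonoidHom.ext fun x => by simp [mul_assoc])).trans (map_id _)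

/-- The parts in several components together. -/
theorem exists_mul_centralizes_all {Ab : Subgroup G} (hcomm : ∀ a ∈ Ab, ∀ b ∈ Ab, a * b = b * a) {s : G}
    (𝒦 : Finset (Subgroup G)) (hcomp : ∀ K ∈ 𝒦, Cfsg.IsComponent K)
    (h : ∀ K ∈ 𝒦, ∃ e ∈ Ab ⊓ K, e * s ∈ centralizer (K : Set G)) :
    ∃ e ∈ Ab ⊓ 𝒦.sup id, ∀ K ∈ 𝒦, e * s ∈ centralizer (K : Set G) := by
  classical
  induction 𝒦 using Finset.induction_on with
  | empty => exact ⟨1, one_mem _, by simp⟩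
  | insert K 𝒦 hK ih =>
    obtain ⟨e, he, hes⟩ := ih (fun L hL => hcomp L (Finset.mem_insert_of_mem hL))
      (fun L hL => h L (Finset.mem_insert_of_mem hL))
    obtain ⟨v, hv, hvs⟩ := h K (Finset.mem_insert_self K 𝒦)
    have hKc := hcomp K (Finset.mem_insert_self K 𝒦)
    rw [Finset.sup_insert, id]
    refine ⟨e * v, ⟨mul_mem he.1 hv.1, mul_mem (mem_sup_right he.2) (mem_sup_left hv.2)⟩, fun L hL => ?_⟩
    rcases Finset.mem_insert.1 hL with rfl | hL
    · rw [mul_assoc]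
      refine mul_mem ((Finset.sup_le fun M hM => ?_ : 𝒦.sup id ≤ centralizer (L : Set G)) he.2) hvs
      exact IsComponent.commute (hcomp M (Finset.mem_insert_of_mem hM)) hKc fun e' => hK (e' ▸ hM)
    · rw [hcomm e he.1 v hv.1, mul_assoc]
      exact mul_mem (IsComponent.commute hKc (hcomp L (Finset.mem_insert_of_mem hL))
        (fun e' => hK (e' ▸ hL)) hv.2) (hes L hL)

/-- An element of `Ab` centralising all moved components is trivial when `Ab` meets `O₂` trivially. -/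
theorem eq_one_of_centralizes {Ab : Subgroup G} (h : Gold.LocalHyp G Ab) {T : Sylow 2 G} (hT : Ab ≤ T)
    (hQ : Ab ⊓ Cfsg.pCore 2 G = ⊥) {a : G} (ha : a ∈ Ab)
    (hc : ∀ K : Subgroup G, Cfsg.IsComponent K → ¬ Ab ≤ centralizer (K : Set G) → a ∈ centralizer (K : Set G)) : a = 1 := by
  haveI : Fact (Nat.Prime 2) := ⟨Nat.prime_two⟩
  haveI hQn : (Cfsg.pCore 2 G).Normal := Grp.pCore_isNormal
  have hF : Cfsg.fittingSubgroup G = Cfsg.pCore 2 G := fitting_eq_pCore (p := 2) h.core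
  have hcen : a ∈ centralizer (Cfsg.generalizedFittingSubgroup G : Set G) := by
    have hle : Cfsg.generalizedFittingSubgroup G ≤ centralizer ({a} : Set G) := by
      refine sup_le (sSup_le fun K hK k hk => mem_centralizer_singleton_iff.2 ?_) fun q hq => ?_
      · by_cases hm : Ab ≤ centralizer (K : Set G)
        · exact mem_centralizer_iff.1 (hm ha) k hk
        · exact mem_centralizer_iff.1 (hc K hK hm) k hk
      · rw [hF] at hq
        refine mem_centralizer_singleton_iff.2 ?_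
        have h1 : q * a * q⁻¹ * a⁻¹ ∈ Ab ⊓ Cfsg.pCore 2 G := by
          refine ⟨Ab.mul_mem ((mem_normalizer_iff.1 (h.sylow_le_normalizer hT (Grp.pCore_le_sylow T hq)) a).1 ha)
            (Ab.inv_mem ha), ?_⟩
          rw [show q * a * q⁻¹ * a⁻¹ = q * (a * q⁻¹ * a⁻¹) by group]
          exact Subgroup.mul_mem _ hq (hQn.conj_mem _ (Subgroup.inv_mem _ hq) a)
        rw [hQ, mem_bot, mul_inv_eq_one, mul_inv_eq_iff_eq_mul] at h1
        exact h1
    exact mem_centralizer_iff.2 fun z hz => mem_centralizer_singleton_iff.1 (hle hz)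
  have h2 : a ∈ Ab ⊓ Cfsg.pCore 2 G := ⟨ha, hF ▸ centralizer_gfitting_le_fitting hcen⟩
  rwa [hQ, mem_bot] at h2

/-- `⁅N₁, N₂⁆ ≤ N₀` once the involutions of `S₁ ⊓ S₂` avoid `O₂(G)` and `O(G) = 1`. -/
theorem commutator_le_core
    (hsimp : ∀ (L : Type u) [Group L] [Finite L], IsSimpleGroup L → ¬ IsMulCommutative L → Gold.Conclusion L)
    (hO : Cfsg.pPrimeCore 2 G = ⊥) (P : Sylow 2 G) {S₁ S₂ Ab : Subgroup G}
    (h₁ : Cfsg.IsStronglyClosed S₁ (P : Subgroup G)) (h₂ : Cfsg.IsStronglyClosed S₂ (P : Subgroup G))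
    (hc : ∀ a ∈ S₁, ∀ b ∈ S₂, a * b = b * a) (hAb : ∀ x, x ∈ Ab ↔ x ∈ S₁ ⊓ S₂ ∧ x * x = 1)
    (hQ : Ab ⊓ Cfsg.pCore 2 G = ⊥) :
    ⁅normalClosure (S₁ : Set G), normalClosure (S₂ : Set G)⁆ ≤ normalClosure ((S₁ ⊓ S₂ : Subgroup G) : Set G) := by
  classical
  haveI : Fact (Nat.Prime 2) := ⟨Nat.prime_two⟩
  have hA₁ : ∀ x ∈ Ab, x ∈ S₁ := fun x hx => ((hAb x).1 hx).1.1
  have hA₂ : ∀ x ∈ Ab, x ∈ S₂ := fun x hx => ((hAb x).1 hx).1.2
  have hAP : Ab ≤ (P : Subgroup G) := fun x hx => h₁.1 (hA₁ x hx)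
  have hcomm : ∀ a ∈ Ab, ∀ b ∈ Ab, a * b = b * a := fun a ha b hb => hc a (hA₁ a ha) b (hA₂ b hb)
  have hclosed : Cfsg.IsStronglyClosed Ab (P : Subgroup G) := ⟨hAP, fun x hx g hg => (hAb _).2
    ⟨⟨h₁.2 x (hA₁ x hx) g hg, h₂.2 x (hA₂ x hx) g hg⟩, by
      rw [show g * x * g⁻¹ * (g * x * g⁻¹) = g * (x * x) * g⁻¹ by group, ((hAb x).1 hx).2]; group⟩⟩
  have h : Gold.LocalHyp G Ab :=
    { core := hO
      elem := ⟨⟨⟨fun a b => Subtype.ext (hcomm a a.2 b b.2)⟩⟩, fun x hx => by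
        rw [pow_two]; exact ((hAb x).1 hx).2⟩
      closed := fun R hR hAR x hx g hg => by
        obtain ⟨k, hk⟩ := move P hR
        have hkA : ∀ a ∈ Ab, k * a * k⁻¹ ∈ Ab := fun a ha => hclosed.2 a ha k (hk a (hAR ha))
        refine (mem_normalizer_iff.1 (mem_normalizer_fintype hkA : k ∈ normalizer (Ab : Set G)) _).2 ?_
        have h1 := hclosed.2 x hx (k * g) (by
          rw [show k * g * x * (k * g)⁻¹ = k * (g * x * g⁻¹) * k⁻¹ by group]; exact hk _ hg)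
        rwa [show k * g * x * (k * g)⁻¹ = k * (g * x * g⁻¹) * k⁻¹ by group] at h1
      comp := fun K hK => hsimp _ hK.2.2 (Gold.not_comm_quotient hK) }
  let Mov : Subgroup G → Prop := fun K => Cfsg.IsComponent K ∧ ¬ Ab ≤ centralizer (K : Set G)
  have hMov : ∀ K, Mov K → ∀ g : G, Mov (K.map (MulAut.conj g).toMonoidHom) := fun K hK g =>
    ⟨IsComponent.conj hK.1 g, moved_conj h hAP hK.1 hK.2 g⟩
  set 𝒦₁ : Set (Subgroup G) := {K | Mov K ∧ ¬ Flat S₁ K} with h𝒦₁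
  set 𝒦₂ : Set (Subgroup G) := {K | Mov K ∧ Flat S₁ K} with h𝒦₂
  haveI : (sSup 𝒦₁).Normal := sSup_normal _ fun K hK g =>
    ⟨hMov K hK.1 g, fun hf => hK.2 (flat_conj hK.1.1 h₁ g hf)⟩
  haveI : (sSup 𝒦₂).Normal := sSup_normal _ fun K hK g =>
    ⟨hMov K hK.1 g, flat_conj (IsComponent.conj hK.1.1 g) h₁ g⁻¹ (by rw [← Grp.map_conj_eq_smul, conj_inv_map]; exact hK.2)⟩
  set C₁ := centralizer ((sSup 𝒦₁ : Subgroup G) : Set G) with hC₁
  set C₂ := centralizer ((sSup 𝒦₂ : Subgroup G) : Set G) with hC₂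
  haveI : C₁.Normal := by rw [hC₁]; infer_instance
  haveI : C₂.Normal := by rw [hC₂]; infer_instance
  have hcl : ∀ {R C : Subgroup G} [C.Normal], Cfsg.IsStronglyClosed R (P : Subgroup G) →
      Cfsg.IsStronglyClosed (R ⊓ C) (P : Subgroup G) := fun {R C} _ hR =>
    ⟨inf_le_left.trans hR.1, fun x hx g hg => ⟨hR.2 x hx.1 g hg, Normal.conj_mem inferInstance x hx.2 g⟩⟩
  -- the two parts meet trivially
  have hd : (S₁ ⊓ C₂) ⊓ (S₂ ⊓ C₁) = ⊥ := by
    rw [eq_bot_iff_forall]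
    have key : ∀ (i : ℕ) (x : G), x ∈ (S₁ ⊓ C₂) ⊓ (S₂ ⊓ C₁) → x ^ 2 ^ i = 1 → x = 1 := by
      intro i
      induction i with
      | zero => intro x _ hx; simpa using hx
      | succ i ih =>
        intro x hx hxi
        have hx2 : x * x = 1 := ih _ (mul_mem hx hx) (by rw [← pow_two, ← pow_mul, ← pow_succ']; exact hxi)
        refine eq_one_of_centralizes h hAP hQ ((hAb x).2 ⟨⟨hx.1.1, hx.2.1⟩, hx2⟩) fun K hK hm => ?_
        by_cases hf : Flat S₁ K
        · exact centralizer_le (SetLike.coe_subset_coe.2 (le_sSup (s := 𝒦₂) ⟨⟨hK, hm⟩, hf⟩)) hx.1.2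
        · exact centralizer_le (SetLike.coe_subset_coe.2 (le_sSup (s := 𝒦₁) ⟨⟨hK, hm⟩, hf⟩)) hx.2.2
    intro x hx
    obtain ⟨i, hi⟩ := P.isPGroup' ⟨x, h₁.1 hx.1.1⟩
    exact key i x hx (congrArg Subtype.val hi)
  have hdis := commutator_eq_bot hO P (S₁ ⊓ C₂) (S₂ ⊓ C₁) (hcl h₁) (hcl h₂)
    (fun a ha b hb => hc a ha.1 b hb.1) hd
  -- reduce to the parts
  set N₀ := normalClosure ((S₁ ⊓ S₂ : Subgroup G) : Set G) with hN₀
  haveI : N₀.Normal := normalClosure_normal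
  haveI : Fintype (Subgroup G) := Fintype.ofFinite _
  have hred : ∀ (R : Subgroup G) (𝒦 : Set (Subgroup G)) (C : Subgroup G) [C.Normal],
      C = centralizer ((sSup 𝒦 : Subgroup G) : Set G) → Ab ≤ R →
      Cfsg.IsStronglyClosed R (P : Subgroup G) → (∀ r ∈ R, ∀ a ∈ Ab, r * a = a * r) →
      (∀ K ∈ 𝒦, Mov K ∧ Flat R K) →
      normalClosure (R : Set G) ≤ N₀ ⊔ normalClosure ((R ⊓ C : Subgroup G) : Set G) := by
    intro R 𝒦 C _ hC hAR hR hRA hflat
    haveI : (normalClosure ((R ⊓ C : Subgroup G) : Set G)).Normal := normalClosure_normal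
    haveI : (N₀ ⊔ normalClosure ((R ⊓ C : Subgroup G) : Set G)).Normal := Subgroup.sup_normal _ _
    refine normalClosure_le_normal fun s hs => ?_
    let F := Finset.univ.filter fun K => K ∈ 𝒦
    have hF : ∀ K, K ∈ F ↔ K ∈ 𝒦 := fun K => by simp [F]
    obtain ⟨e, he, hes⟩ := exists_mul_centralizes_all hcomm F (fun K hK => (hflat K ((hF K).1 hK)).1.1)
      fun K hK => exists_mul_centralizes_of_flat h hAP (hflat K ((hF K).1 hK)).1.1
        (hflat K ((hF K).1 hK)).1.2 hR hRA (hflat K ((hF K).1 hK)).2 hs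
    have hes' : e * s ∈ C := by
      rw [hC]
      have hle : sSup 𝒦 ≤ centralizer ({e * s} : Set G) := sSup_le fun K hK k hk =>
        mem_centralizer_singleton_iff.2 (mem_centralizer_iff.1 (hes K ((hF K).2 hK)) k hk)
      exact mem_centralizer_iff.2 fun k hk => mem_centralizer_singleton_iff.1 (hle hk)
    have h1 : e * s ∈ R ⊓ C := ⟨mul_mem (hAR he.1) hs, hes'⟩
    rw [show s = e⁻¹ * (e * s) by group]
    exact mul_mem_sup (inv_mem (subset_normalClosure ((hAb e).1 he.1).1)) (subset_normalClosure h1)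
  have e₁ := hred S₁ 𝒦₂ C₂ hC₂ (fun x hx => hA₁ x hx) h₁ (fun r hr a ha => hc r hr a (hA₂ a ha))
    fun K hK => hK
  have e₂ := hred S₂ 𝒦₁ C₁ hC₁ (fun x hx => hA₂ x hx) h₂ (fun r hr a ha => (hc a (hA₁ a ha) r hr).symm)
    fun K hK => ⟨hK.1, (flat_or_flat h hAP hK.1.1 hK.1.2 h₁ h₂ hc).resolve_left hK.2⟩
  set π := QuotientGroup.mk' N₀ with hπ
  have hmap : ∀ {A B : Subgroup G}, A ≤ N₀ ⊔ B → A.map π ≤ B.map π := fun {A B} hAB => by
    refine (map_mono hAB).trans ?_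
    rw [Subgroup.map_sup, QuotientGroup.map_mk'_self, bot_sup_eq]
  have hbot : (⁅normalClosure (S₁ : Set G), normalClosure (S₂ : Set G)⁆).map π ≤ ⊥ := by
    rw [map_commutator]
    refine (commutator_mono (hmap e₁) (hmap e₂)).trans ?_
    rw [← map_commutator, hdis, Subgroup.map_bot]
  rw [le_bot_iff, Subgroup.map_eq_bot_iff, QuotientGroup.ker_mk'] at hbot
  exact hbot

/-- The reduction to `A ⊓ O₂(G) = 1` and `O(G) = 1`. -/
theorem commutator_le_aux
    (hsimp : ∀ (L : Type u) [Group L] [Finite L], IsSimpleGroup L → ¬ IsMulCommutative L → Gold.Conclusion L) :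
    ∀ (n : ℕ) (G : Type u) [Group G] [Finite G], Nat.card G = n →
      ∀ (P : Sylow 2 G) (S₁ S₂ : Subgroup G), Cfsg.IsStronglyClosed S₁ (P : Subgroup G) →
      Cfsg.IsStronglyClosed S₂ (P : Subgroup G) → (∀ a ∈ S₁, ∀ b ∈ S₂, a * b = b * a) →
      ⁅normalClosure (S₁ : Set G), normalClosure (S₂ : Set G)⁆ ≤
        normalClosure ((S₁ ⊓ S₂ : Subgroup G) : Set G) ⊔ Cfsg.pPrimeCore 2 G := by
  intro n
  induction n using Nat.strong_induction_on with
  | _ n ih =>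
  intro G _ _ hn P S₁ S₂ h₁ h₂ hc
  haveI : Fact (Nat.Prime 2) := ⟨Nat.prime_two⟩
  haveI hON : (Cfsg.pPrimeCore 2 G).Normal := Grp.pPrimeCore_isNormal
  set N₁ := normalClosure (S₁ : Set G) with hN₁
  set N₂ := normalClosure (S₂ : Set G) with hN₂
  set N₀ := normalClosure ((S₁ ⊓ S₂ : Subgroup G) : Set G) with hN₀
  haveI : N₀.Normal := normalClosure_normal
  -- what induction gives for the quotient by a normal subgroup
  have step : ∀ (Z : Subgroup G) [Z.Normal], Z ≠ ⊥ →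
      (∀ x ∈ S₁, ∀ y ∈ S₂, x⁻¹ * y ∈ Z → x ∈ S₁ ⊓ S₂ ⊔ Z) →
      ⁅N₁, N₂⁆ ≤ N₀ ⊔ (Cfsg.pPrimeCore 2 (G ⧸ Z)).comap (QuotientGroup.mk' Z) := by
    intro Z _ hZ hinf
    set π := QuotientGroup.mk' Z with hπ
    have hπs : Function.Surjective π := QuotientGroup.mk'_surjective Z
    have hlt : Nat.card (G ⧸ Z) < n := hn ▸ by
      refine lt_of_le_of_ne (Nat.le_of_dvd Nat.card_pos (card_quotient_dvd_card _)) fun e => hZ ?_
      have := card_eq_card_quotient_mul_card_subgroup Z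
      rw [e] at this
      exact eq_bot_of_card_eq _ (mul_eq_left₀ Nat.card_pos.ne' |>.1 this.symm)
    have hcl : ∀ {R : Subgroup G}, Cfsg.IsStronglyClosed R (P : Subgroup G) →
        Cfsg.IsStronglyClosed (R.map π) ((P.mapSurjective hπs : Sylow 2 (G ⧸ Z)) : Subgroup (G ⧸ Z)) :=
      fun hR => by rw [Sylow.coe_mapSurjective]; exact S1250.result P _ hR Z
    have key := ih _ hlt _ rfl (P.mapSurjective hπs) (S₁.map π) (S₂.map π) (hcl h₁) (hcl h₂)
      (by rintro _ ⟨a, ha, rfl⟩ _ ⟨b, hb, rfl⟩; rw [← map_mul, ← map_mul, hc a ha b hb])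
    have hi : S₁.map π ⊓ S₂.map π ≤ (S₁ ⊓ S₂).map π := by
      rintro _ ⟨⟨x, hx, rfl⟩, ⟨y, hy, e⟩⟩
      have h1 := mem_map_of_mem π (hinf x hx y hy (QuotientGroup.eq.1 e.symm))
      rwa [Subgroup.map_sup, QuotientGroup.map_mk'_self, sup_bot_eq] at h1
    have h2 : normalClosure ((S₁.map π ⊓ S₂.map π : Subgroup (G ⧸ Z)) : Set (G ⧸ Z)) ≤ N₀.map π := by
      haveI : (N₀.map π).Normal := Normal.map inferInstance π hπs
      exact normalClosure_le_normal fun z hz => map_mono (le_normalClosure) (hi hz)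
    have h3 : (⁅N₁, N₂⁆).map π ≤ N₀.map π ⊔ Cfsg.pPrimeCore 2 (G ⧸ Z) := by
      rw [map_commutator, hN₁, hN₂, Subgroup.map_normalClosure _ π hπs, Subgroup.map_normalClosure _ π hπs]
      exact key.trans (sup_le_sup_right h2 _)
    intro z hz
    obtain ⟨a, ha, b, hb, hab⟩ := mem_sup_of_normal_left.1 (h3 (mem_map_of_mem π hz))
    obtain ⟨a', ha', rfl⟩ := ha
    rw [show z = a' * (a'⁻¹ * z) by group]
    refine mul_mem_sup ha' ?_
    show π (a'⁻¹ * z) ∈ Cfsg.pPrimeCore 2 (G ⧸ Z)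
    rw [map_mul, map_inv, ← hab, inv_mul_cancel_left]
    exact hb
  by_cases hO : Cfsg.pPrimeCore 2 G = ⊥
  swap
  · refine (step _ hO fun x hx y hy hxy => ?_).trans (sup_le le_sup_left ?_)
    · have h1 : x⁻¹ * y = 1 := by
        obtain ⟨i, hi⟩ := IsPGroup.iff_orderOf.1 P.isPGroup' ⟨_, mul_mem (inv_mem (h₁.1 hx)) (h₂.1 hy)⟩
        rw [Subgroup.orderOf_mk] at hi
        exact ClosedPair.eq_one_of_odd_two (ClosedPair.odd_orderOf_of_mem Invol.odd_oddCore hxy)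
          (k := i) (by rw [← hi, pow_orderOf_eq_one])
      rw [inv_mul_eq_one] at h1
      exact mem_sup_left ⟨hx, h1 ▸ hy⟩
    · rw [Grp.pPrimeCore_quotient_bot, MonoidHom.comap_bot, QuotientGroup.ker_mk']
      exact le_sup_right
  rw [hO, sup_bot_eq]
  let Ab : Subgroup G :=
    { carrier := {x | x ∈ S₁ ⊓ S₂ ∧ x * x = 1}
      one_mem' := ⟨one_mem _, mul_one 1⟩
      mul_mem' := fun {a b} ha hb => ⟨mul_mem ha.1 hb.1, by
        rw [show a * b * (a * b) = a * (b * a) * b by group, ← hc a ha.1.1 b hb.1.2,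
          show a * (a * b) * b = (a * a) * (b * b) by group, ha.2, hb.2, mul_one]⟩
      inv_mem' := fun {a} ha => ⟨inv_mem ha.1, by rw [← mul_inv_rev, ha.2, inv_one]⟩ }
  by_cases hQ : Ab ⊓ Cfsg.pCore 2 G = ⊥
  · exact commutator_le_core hsimp hO P h₁ h₂ hc (fun x => Iff.rfl) hQ
  haveI hOn : (Cfsg.pCore 2 G).Normal := Grp.pCore_isNormal
  set Q := Ab ⊓ Cfsg.pCore 2 G
  haveI hQn : Q.Normal := ⟨fun x hx g => by
    have hm := hOn.conj_mem x hx.2 g
    refine ⟨⟨⟨h₁.2 x hx.1.1.1 g (Grp.pCore_le_sylow P hm), h₂.2 x hx.1.1.2 g (Grp.pCore_le_sylow P hm)⟩, ?_⟩, hm⟩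
    rw [show g * x * g⁻¹ * (g * x * g⁻¹) = g * (x * x) * g⁻¹ by group, hx.1.2]; group⟩
  set C := centralizer (Q : Set G) with hC
  have hN₁C : N₁ ≤ C := normalClosure_le_normal fun a ha => mem_centralizer_iff.2 fun q hq =>
    (hc a ha q hq.1.1.2).symm
  have hN₂C : N₂ ≤ C := normalClosure_le_normal fun b hb => mem_centralizer_iff.2 fun q hq =>
    hc q hq.1.1.1 b hb
  have hN₀C : N₀ ≤ C := normalClosure_le_normal fun a ha => mem_centralizer_iff.2 fun q hq =>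
    hc q hq.1.1.1 a ha.2
  have hle := step Q hQ fun x hx y hy hxy => mem_sup_left ⟨hx, by
    simpa using S₂.mul_mem hy (S₂.inv_mem hxy.1.1.2)⟩
  set E₀ := (Cfsg.pPrimeCore 2 (G ⧸ Q)).comap (QuotientGroup.mk' Q) with hE₀
  haveI : (Cfsg.pPrimeCore 2 (G ⧸ Q)).Normal := Grp.pPrimeCore_isNormal
  have hEQ : E₀ ⊓ C ≤ Q := by
    have hQ2 : IsPGroup 2 ↥(Q ⊓ (E₀ ⊓ C)) :=
      P.isPGroup'.to_le (inf_le_left.trans fun x hx => h₁.1 hx.1.1.1)
    refine (le_two_of_odd_quotient hO hQ2 inf_le_right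
      (fun z hz e he => mem_centralizer_iff.1 he.2 z hz.1) ?_).trans inf_le_left
    have h1 : (Q ⊓ (E₀ ⊓ C)).relIndex (E₀ ⊓ C) ∣ Nat.card ↥(Cfsg.pPrimeCore 2 (G ⧸ Q)) := by
      have h3 := (QuotientGroup.mk' Q).ker.inf_relIndex_right (E₀ ⊓ C)
      have h4 := relIndex_ker (f := QuotientGroup.mk' Q) (K := E₀ ⊓ C)
      rw [QuotientGroup.ker_mk'] at h3 h4
      rw [h3, h4]
      exact card_dvd_of_le (by rintro _ ⟨e, he, rfl⟩; exact he.1)
    exact Invol.odd_oddCore.of_dvd_nat h1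
  intro z hz
  have hzC : z ∈ C := (commutator_mono hN₁C hN₂C).trans ((commutator_le.2 fun a ha b hb => by
    rw [commutatorElement_def]; exact mul_mem (mul_mem (mul_mem ha hb) (inv_mem ha)) (inv_mem hb))) hz
  obtain ⟨a, ha, b, hb, rfl⟩ := mem_sup_of_normal_left.1 (hle hz)
  refine mul_mem ha ?_
  have hbC : b ∈ C := by simpa using mul_mem (inv_mem (hN₀C ha)) hzC
  have hbQ := hEQ ⟨hb, hbC⟩
  exact subset_normalClosure hbQ.1.1

/-- Normal closures of commuting strongly closed subgroups, given the statement for the simple groups. -/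
theorem commutator_le
    (hsimp : ∀ (L : Type u) [Group L] [Finite L], IsSimpleGroup L → ¬ IsMulCommutative L → Gold.Conclusion L)
    {G : Type u} [Group G] [Finite G] (P : Sylow 2 G) (S₁ S₂ : Subgroup G)
    (h₁ : Cfsg.IsStronglyClosed S₁ (P : Subgroup G)) (h₂ : Cfsg.IsStronglyClosed S₂ (P : Subgroup G))
    (hc : ∀ a ∈ S₁, ∀ b ∈ S₂, a * b = b * a) :
    ⁅normalClosure (S₁ : Set G), normalClosure (S₂ : Set G)⁆ ≤
      normalClosure ((S₁ ⊓ S₂ : Subgroup G) : Set G) ⊔ Cfsg.pPrimeCore 2 G :=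
  commutator_le_aux hsimp _ G rfl P S₁ S₂ h₁ h₂ hc

end Cfsg.Agent.Fus.ClosedProduct
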